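import Cfsg.Agent.Lib.H40.AltGen
import Cfsg.Agent.Lib.H40.StemFinish

/-!
The triple cover of `A₇` as a group of pairs (6 × 6 matrix over `F₇`, even permutation): the matrices permute 21
lines indexed by the pairs of points.
-/

set_option autoImplicit false

namespace H40.ThreeA7

open Subgroup H40.AltGen
open scoped commutatorElement

/-- the 21 lines, indexed by unordered pairs of the 7 points -/
def V : Fin 7 → Fin 7 → Fin 6 → ZMod 7 := ![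
  ![![0, 0, 0, 0, 0, 0], ![0, 0, 1, 1, 1, 1], ![0, 1, 0, 1, 2, 4], ![0, 1, 1, 0, 4, 2], ![0, 1, 2, 4, 0, 1], ![0, 1, 4, 2, 1, 0], ![1, 0, 0, 0, 0, 0]],
  ![![0, 0, 1, 1, 1, 1], ![0, 0, 0, 0, 0, 0], ![1, 0, 0, 1, 4, 2], ![1, 0, 1, 0, 2, 4], ![1, 0, 4, 2, 0, 1], ![1, 0, 2, 4, 1, 0], ![0, 1, 0, 0, 0, 0]],
  ![![0, 1, 0, 1, 2, 4], ![1, 0, 0, 1, 4, 2], ![0, 0, 0, 0, 0, 0], ![1, 1, 0, 0, 1, 1], ![1, 2, 0, 4, 0, 4], ![1, 4, 0, 2, 2, 0], ![0, 0, 1, 0, 0, 0]],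
  ![![0, 1, 1, 0, 4, 2], ![1, 0, 1, 0, 2, 4], ![1, 1, 0, 0, 1, 1], ![0, 0, 0, 0, 0, 0], ![1, 4, 2, 0, 0, 2], ![1, 2, 4, 0, 4, 0], ![0, 0, 0, 1, 0, 0]],
  ![![0, 1, 2, 4, 0, 1], ![1, 0, 4, 2, 0, 1], ![1, 2, 0, 4, 0, 4], ![1, 4, 2, 0, 0, 2], ![0, 0, 0, 0, 0, 0], ![1, 1, 1, 1, 0, 0], ![0, 0, 0, 0, 1, 0]],
  ![![0, 1, 4, 2, 1, 0], ![1, 0, 2, 4, 1, 0], ![1, 4, 0, 2, 2, 0], ![1, 2, 4, 0, 4, 0], ![1, 1, 1, 1, 0, 0], ![0, 0, 0, 0, 0, 0], ![0, 0, 0, 0, 0, 1]],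
  ![![1, 0, 0, 0, 0, 0], ![0, 1, 0, 0, 0, 0], ![0, 0, 1, 0, 0, 0], ![0, 0, 0, 1, 0, 0], ![0, 0, 0, 0, 1, 0], ![0, 0, 0, 0, 0, 1], ![0, 0, 0, 0, 0, 0]]]

/-- lifts of the 3-cycles `(0 1 k)`, `k = 2, …, 6` -/
def M : Fin 7 → Matrix (Fin 6) (Fin 6) (ZMod 7) := ![1, 1,
  !![0, 0, 1, 0, 0, 0; 1, 0, 0, 0, 0, 0; 0, 1, 0, 0, 0, 0; 0, 0, 0, 1, 0, 0; 0, 0, 0, 0, 4, 0; 0, 0, 0, 0, 0, 2],
  !![0, 0, 0, 1, 0, 0; 1, 0, 0, 0, 0, 0; 0, 0, 1, 0, 0, 0; 0, 1, 0, 0, 0, 0; 0, 0, 0, 0, 2, 0; 0, 0, 0, 0, 0, 4],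
  !![0, 0, 0, 0, 1, 0; 1, 0, 0, 0, 0, 0; 0, 0, 4, 0, 0, 0; 0, 0, 0, 2, 0, 0; 0, 1, 0, 0, 0, 0; 0, 0, 0, 0, 0, 1],
  !![0, 0, 0, 0, 0, 1; 1, 0, 0, 0, 0, 0; 0, 0, 2, 0, 0, 0; 0, 0, 0, 4, 0, 0; 0, 0, 0, 0, 1, 0; 0, 1, 0, 0, 0, 0],
  !![0, 1, 0, 0, 0, 0; 0, 0, 4, 4, 4, 4; 4, 0, 0, 4, 1, 2; 4, 0, 4, 0, 2, 1; 4, 0, 1, 2, 0, 4; 4, 0, 2, 1, 4, 0]]

/-- their inverses -/
def M' : Fin 7 → Matrix (Fin 6) (Fin 6) (ZMod 7) := ![1, 1,
  !![0, 1, 0, 0, 0, 0; 0, 0, 1, 0, 0, 0; 1, 0, 0, 0, 0, 0; 0, 0, 0, 1, 0, 0; 0, 0, 0, 0, 2, 0; 0, 0, 0, 0, 0, 4],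
  !![0, 1, 0, 0, 0, 0; 0, 0, 0, 1, 0, 0; 0, 0, 1, 0, 0, 0; 1, 0, 0, 0, 0, 0; 0, 0, 0, 0, 4, 0; 0, 0, 0, 0, 0, 2],
  !![0, 1, 0, 0, 0, 0; 0, 0, 0, 0, 1, 0; 0, 0, 2, 0, 0, 0; 0, 0, 0, 4, 0, 0; 1, 0, 0, 0, 0, 0; 0, 0, 0, 0, 0, 1],
  !![0, 1, 0, 0, 0, 0; 0, 0, 0, 0, 0, 1; 0, 0, 4, 0, 0, 0; 0, 0, 0, 2, 0, 0; 0, 0, 0, 0, 1, 0; 1, 0, 0, 0, 0, 0],
  !![0, 0, 4, 4, 4, 4; 1, 0, 0, 0, 0, 0; 0, 4, 0, 4, 2, 1; 0, 4, 4, 0, 1, 2; 0, 4, 2, 1, 0, 4; 0, 4, 1, 2, 4, 0]]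

/-- a lift of `(3 4 5)` -/
def B : Matrix (Fin 6) (Fin 6) (ZMod 7) := !![1, 0, 0, 0, 0, 0; 0, 2, 0, 0, 0, 0; 0, 0, 4, 0, 0, 0; 0, 0, 0, 0, 0, 4; 0, 0, 0, 4, 0, 0; 0, 0, 0, 0, 4, 0]
def B' : Matrix (Fin 6) (Fin 6) (ZMod 7) := !![1, 0, 0, 0, 0, 0; 0, 4, 0, 0, 0, 0; 0, 0, 2, 0, 0, 0; 0, 0, 0, 0, 2, 0; 0, 0, 0, 0, 0, 2; 0, 0, 0, 2, 0, 0]

/-- compatibility of a matrix with a permutation -/
def Compat (g : Matrix (Fin 6) (Fin 6) (ZMod 7)) (p : Fin 7 → Fin 7) : Prop :=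
  ∀ i j : Fin 7, ∃ c : ZMod 7, c ^ 3 = 1 ∧ g.mulVec (V i j) = c • V (p i) (p j)

instance (g : Matrix (Fin 6) (Fin 6) (ZMod 7)) (p : Fin 7 → Fin 7) : Decidable (Compat g p) := by
  unfold Compat; infer_instance

/-- the group of pairs -/
def Γ : Subgroup (GL (Fin 6) (ZMod 7) × alternatingGroup (Fin 7)) where
  carrier := {x | Compat (x.1 : Matrix (Fin 6) (Fin 6) (ZMod 7)) (x.2 : Equiv.Perm (Fin 7))}
  one_mem' := by
    intro i j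
    exact ⟨1, by norm_num, by simp⟩
  mul_mem' := by
    intro x y hx hy i j
    obtain ⟨c, hc, hc'⟩ := hy i j
    obtain ⟨e, he, he'⟩ := hx ((y.2 : Equiv.Perm (Fin 7)) i) ((y.2 : Equiv.Perm (Fin 7)) j)
    refine ⟨e * c, by rw [mul_pow, hc, he, mul_one], ?_⟩
    change ((x.1 * y.1 : GL (Fin 6) (ZMod 7)) : Matrix (Fin 6) (Fin 6) (ZMod 7)).mulVec (V i j) =
      (e * c) • V ((x.2 : Equiv.Perm (Fin 7)) ((y.2 : Equiv.Perm (Fin 7)) i))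
        ((x.2 : Equiv.Perm (Fin 7)) ((y.2 : Equiv.Perm (Fin 7)) j))
    rw [Units.val_mul, ← Matrix.mulVec_mulVec, hc', Matrix.mulVec_smul, he', smul_smul, mul_comm]
  inv_mem' := by
    intro x hx i j
    obtain ⟨c, hc, hc'⟩ := hx ((x.2 : Equiv.Perm (Fin 7))⁻¹ i) ((x.2 : Equiv.Perm (Fin 7))⁻¹ j)
    rw [← Equiv.Perm.mul_apply, ← Equiv.Perm.mul_apply, mul_inv_cancel, Equiv.Perm.one_apply,
      Equiv.Perm.one_apply] at hc'
    refine ⟨c ^ 2, by rw [← pow_mul, mul_comm, pow_mul, hc, one_pow], ?_⟩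
    change ((x.1⁻¹ : GL (Fin 6) (ZMod 7)) : Matrix (Fin 6) (Fin 6) (ZMod 7)).mulVec (V i j) =
      (c ^ 2) • V ((x.2 : Equiv.Perm (Fin 7))⁻¹ i) ((x.2 : Equiv.Perm (Fin 7))⁻¹ j)
    have h1 : V i j = (c ^ 2) • (x.1 : Matrix (Fin 6) (Fin 6) (ZMod 7)).mulVec
        (V ((x.2 : Equiv.Perm (Fin 7))⁻¹ i) ((x.2 : Equiv.Perm (Fin 7))⁻¹ j)) := by
      rw [hc', smul_smul, ← pow_succ, hc, one_smul]
    rw [h1, Matrix.mulVec_smul, Matrix.mulVec_mulVec, Units.inv_mul, Matrix.one_mulVec]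

/-- the projection -/
def σ : Γ →* alternatingGroup (Fin 7) := (MonoidHom.snd _ _).comp Γ.subtype

theorem M_mul : ∀ k : Fin 7, M k * M' k = 1 ∧ M' k * M k = 1 := by decide +kernel

theorem B_mul : B * B' = 1 ∧ B' * B = 1 := by decide +kernel

theorem M_compat : ∀ k : Fin 7, k ≠ 0 → k ≠ 1 → Compat (M k) (T 0 1 k) := by decide +kernel

theorem B_compat : Compat B (T 3 4 5) := by decide +kernel

/-- lifts of the generators -/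
def lift (k : Fin 7) (hk : k ≠ 0) (hk' : k ≠ 1) : Γ :=
  ⟨(⟨M k, M' k, (M_mul k).1, (M_mul k).2⟩, ⟨T 0 1 k,
    (isThreeCycle_T (by decide) hk.symm hk'.symm).mem_alternatingGroup⟩), M_compat k hk hk'⟩

def liftB : Γ :=
  ⟨(⟨B, B', B_mul.1, B_mul.2⟩, ⟨T 3 4 5,
    (isThreeCycle_T (by decide) (by decide) (by decide)).mem_alternatingGroup⟩), B_compat⟩

theorem σ_surjective : Function.Surjective σ := by
  have h : alternatingGroup (Fin 7) ≤ (σ.range).map (alternatingGroup (Fin 7)).subtype := by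
    apply alternating_le (p := 0) (q := 1) (by decide)
    intro i hi hi'
    exact ⟨_, ⟨lift i hi hi', rfl⟩, rfl⟩
  intro g
  obtain ⟨g', ⟨x, hx⟩, hg⟩ := h g.2
  refine ⟨x, ?_⟩
  rw [hx]; exact Subtype.ext hg

/-- a matrix fixing all 21 lines is scalar -/
theorem scalar_of_compat {g : Matrix (Fin 6) (Fin 6) (ZMod 7)} (hg : Compat g id) :
    ∃ c : ZMod 7, c ^ 3 = 1 ∧ g = Matrix.scalar (Fin 6) c := by
  -- the coordinate vectors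
  have hV : ∀ i a : Fin 6, V i.castSucc 6 a = if a = i then 1 else 0 := by decide +kernel
  have hcol : ∀ i : Fin 6, ∃ c : ZMod 7, c ^ 3 = 1 ∧ ∀ a, g a i = if a = i then c else 0 := by
    intro i
    obtain ⟨c, hc, hc'⟩ := hg i.castSucc 6
    refine ⟨c, hc, ?_⟩
    intro a
    have h1 := congrFun hc' a
    rw [Matrix.mulVec, dotProduct, Finset.sum_eq_single i] at h1
    · rw [hV, if_pos rfl, mul_one] at h1
      rw [h1]
      simp only [Pi.smul_apply, id, smul_eq_mul]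
      rw [hV]
      split_ifs <;> simp
    · intro b _ hb
      rw [hV, if_neg hb, mul_zero]
    · intro h; exact absurd (Finset.mem_univ _) h
  choose c hc hc' using hcol
  -- apply to a vector
  have hrow : ∀ i j : Fin 7, ∃ e : ZMod 7, ∀ a : Fin 6, V i j a ≠ 0 → c a = e := by
    intro i j
    obtain ⟨e, he, he'⟩ := hg i j
    refine ⟨e, ?_⟩
    intro a ha
    have h1 := congrFun he' a
    rw [Matrix.mulVec, dotProduct, Finset.sum_eq_single a] at h1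
    · rw [hc' a a, if_pos rfl] at h1
      simp only [Pi.smul_apply, id, smul_eq_mul] at h1
      have : Fact (Nat.Prime 7) := ⟨by norm_num⟩
      exact mul_right_cancel₀ ha h1
    · intro b _ hb
      rw [hc' b a, if_neg hb.symm, zero_mul]
    · intro h; exact absurd (Finset.mem_univ _) h
  have hsup1 : ∀ a : Fin 6, a ≠ 0 → a ≠ 1 → V 0 1 a ≠ 0 := by decide +kernel
  have hsup2 : ∀ a : Fin 6, a ≠ 2 → a ≠ 3 → V 2 3 a ≠ 0 := by decide +kernel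
  obtain ⟨e, he⟩ := hrow 0 1
  obtain ⟨f, hf⟩ := hrow 2 3
  have hef : e = f := by
    rw [← he 4 (hsup1 4 (by decide) (by decide)), ← hf 4 (hsup2 4 (by decide) (by decide))]
  have hall : ∀ a, c a = e := by
    intro a
    by_cases h0 : a = 0
    · rw [hef]; exact hf a (hsup2 a (by rw [h0]; decide) (by rw [h0]; decide))
    by_cases h1 : a = 1
    · rw [hef]; exact hf a (hsup2 a (by rw [h1]; decide) (by rw [h1]; decide))
    exact he a (hsup1 a h0 h1)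
  refine ⟨e, by rw [← hall 0]; exact hc 0, ?_⟩
  ext a b
  rw [hc' b a, Matrix.scalar_apply, Matrix.diagonal_apply, hall b]

/-- the kernel: pairs `(c, 1)` with `c³ = 1` -/
theorem ker_eq {x : Γ} (hx : x ∈ σ.ker) : ∃ c : ZMod 7, c ^ 3 = 1 ∧
    ((x : GL (Fin 6) (ZMod 7) × alternatingGroup (Fin 7)).1 : Matrix (Fin 6) (Fin 6) (ZMod 7)) =
      Matrix.scalar (Fin 6) c ∧ (x : GL (Fin 6) (ZMod 7) × alternatingGroup (Fin 7)).2 = 1 := by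
  obtain ⟨⟨g, p⟩, hgp⟩ := x
  have hp : p = 1 := hx
  subst hp
  obtain ⟨c, hc, hc'⟩ := scalar_of_compat (g := g) hgp
  exact ⟨c, hc, hc', rfl⟩

/-- a generator of the kernel -/
def z : Γ := ⁅lift 2 (by decide) (by decide), liftB⁆

theorem z_mem_ker : z ∈ σ.ker := by
  rw [MonoidHom.mem_ker, z, map_commutatorElement]
  apply Subtype.ext
  change ⁅T (0 : Fin 7) 1 2, T (3 : Fin 7) 4 5⁆ = 1
  decide

theorem z_val : ((z : GL (Fin 6) (ZMod 7) × alternatingGroup (Fin 7)).1 : Matrix (Fin 6) (Fin 6) (ZMod 7)) =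
    Matrix.scalar (Fin 6) 4 := by
  change M 2 * B * M' 2 * B' = Matrix.scalar (Fin 6) 4
  decide +kernel

theorem sq_fst (x : Γ) : (((x ^ 2 : Γ) : GL (Fin 6) (ZMod 7) × alternatingGroup (Fin 7)).1 :
    Matrix (Fin 6) (Fin 6) (ZMod 7)) =
    ((x : GL (Fin 6) (ZMod 7) × alternatingGroup (Fin 7)).1 : Matrix (Fin 6) (Fin 6) (ZMod 7)) ^ 2 := rfl

theorem sq_snd (x : Γ) : ((x ^ 2 : Γ) : GL (Fin 6) (ZMod 7) × alternatingGroup (Fin 7)).2 =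
    (x : GL (Fin 6) (ZMod 7) × alternatingGroup (Fin 7)).2 ^ 2 := rfl

theorem ker_cases {x : Γ} (hx : x ∈ σ.ker) : x = 1 ∨ x = z ∨ x = z ^ 2 := by
  obtain ⟨c, hc, h1, h2⟩ := ker_eq hx
  obtain ⟨c', hc', h1', h2'⟩ := ker_eq z_mem_ker
  have hall : ∀ c : ZMod 7, c ^ 3 = 1 → c = 1 ∨ c = 4 ∨ c = 4 ^ 2 := by decide
  rcases hall c hc with rfl | rfl | rfl
  · left
    apply Subtype.ext
    exact Prod.ext (Units.ext (by rw [h1]; simp)) h2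
  · right; left
    apply Subtype.ext
    exact Prod.ext (Units.ext (by rw [h1, z_val])) (by rw [h2, h2'])
  · right; right
    apply Subtype.ext
    refine Prod.ext (Units.ext ?_) ?_
    · rw [sq_fst, h1, z_val, ← map_pow]
    · rw [sq_snd, h2, h2', one_pow]

theorem z_ne : z ≠ 1 ∧ z ^ 2 ≠ 1 ∧ z ≠ z ^ 2 := by
  have h1 : z ≠ 1 := by
    intro h
    have h0 : ∀ x : Γ, x = 1 → ((x : GL (Fin 6) (ZMod 7) × alternatingGroup (Fin 7)).1 :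
        Matrix (Fin 6) (Fin 6) (ZMod 7)) = 1 := by
      intro x hx; rw [hx]; rfl
    have h2 := h0 z h
    rw [z_val] at h2
    have h3 := congrFun (congrFun h2 0) 0
    revert h3
    decide
  refine ⟨h1, ?_, ?_⟩
  · intro h
    have h0 : ∀ x : Γ, x = 1 → ((x : GL (Fin 6) (ZMod 7) × alternatingGroup (Fin 7)).1 :
        Matrix (Fin 6) (Fin 6) (ZMod 7)) = 1 := by
      intro x hx; rw [hx]; rfl
    have h2 := h0 (z ^ 2) h
    rw [sq_fst, z_val, ← map_pow] at h2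
    have h3 := congrFun (congrFun h2 0) 0
    revert h3
    decide
  · intro h
    apply h1
    rw [pow_two] at h
    exact (left_eq_mul.mp h)

theorem card_ker : Nat.card σ.ker = 3 := by
  have hz1 : (1 : Γ) ∈ σ.ker := one_mem _
  have hz2 : z ^ 2 ∈ σ.ker := pow_mem z_mem_ker 2
  have h : (Set.univ : Set σ.ker) = {⟨1, hz1⟩, ⟨z, z_mem_ker⟩, ⟨z ^ 2, hz2⟩} := by
    ext x
    simp only [Set.mem_insert_iff, Set.mem_singleton_iff, Set.mem_univ, true_iff]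
    rcases ker_cases x.2 with h | h | h
    · left; exact Subtype.ext h
    · right; left; exact Subtype.ext h
    · right; right; exact Subtype.ext h
  rw [← Set.ncard_univ, h, Set.ncard_insert_of_notMem, Set.ncard_pair]
  · intro h; exact z_ne.2.2 (congrArg Subtype.val h)
  · simp only [Set.mem_insert_iff, Set.mem_singleton_iff, not_or]
    exact ⟨fun h => z_ne.1 (congrArg Subtype.val h).symm, fun h => z_ne.2.1 (congrArg Subtype.val h).symm⟩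

theorem isStem : Cfsg.IsStemExtension σ := by
  refine ⟨σ_surjective, ?_, ?_⟩
  · intro x hx
    rw [mem_center_iff]
    intro y
    obtain ⟨c, _, h1, h2⟩ := ker_eq hx
    apply Subtype.ext
    apply Prod.ext
    · apply Units.ext
      change (y.1.1 : Matrix (Fin 6) (Fin 6) (ZMod 7)) * (x.1.1 : Matrix (Fin 6) (Fin 6) (ZMod 7)) =
        (x.1.1 : Matrix (Fin 6) (Fin 6) (ZMod 7)) * (y.1.1 : Matrix (Fin 6) (Fin 6) (ZMod 7))
      rw [h1]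
      exact ((Matrix.scalar_commute c (fun r => mul_comm _ _) _).eq).symm
    · change y.1.2 * x.1.2 = x.1.2 * y.1.2
      rw [h2, mul_one, one_mul]
  · have hz : z ∈ _root_.commutator Γ := by
      rw [_root_.commutator_def]
      exact commutator_mem_commutator (mem_top _) (mem_top _)
    intro x hx
    rcases ker_cases hx with h | h | h
    · rw [h]; exact one_mem _
    · rw [h]; exact hz
    · rw [h]; exact pow_mem hz 2

end H40.ThreeA7
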