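import Cfsg.Agent.Lib.H40.ChevOut4
import Cfsg.Agent.Lib.H23.ChevSymCert

/-!
Graph automorphisms of type `D₄`, and the structure theorem for the outer automorphism group.
-/

set_option autoImplicit false
set_option maxRecDepth 100000

namespace H40.ChevAut

open H22.RGD H22.Coord H22.RCCheck H22.RCComb H22.ChevTri H22.ChevRel H22.ChevSys H22.ChevMain
open H22.ChevStd H40.RGDOpp H40.RGDAut H40.RGDSyl H22.ChevTorus H22.ChevHom
open Cfsg.Lie
open H23.ChevSym H23.ChevCore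
open scoped MatrixGroups Matrix commutatorElement

def symD4c : SCode := {
 rho := [0, 1, 2, 6, 7, 10, 3, 4, 8, 9, 5, 11, 12, 18, 14, 15, 19, 20, 13, 16, 17, 21, 22, 23],
 rinv := [0, 1, 2, 6, 7, 10, 3, 4, 8, 9, 5, 11, 12, 18, 14, 15, 19, 20, 13, 16, 17, 21, 22, 23],
 ep := [1, 1, 1, -1, -1, 1, -1, -1, 1, 1, 1, 1, 1, 1, 1, 1, -1, -1, 1, -1, -1, 1, 1, 1],
 pi := [2, 1, 0, 3],
 pinv := [2, 1, 0, 3] }

def symD4d : SCode := {
 rho := [0, 1, 6, 3, 8, 11, 2, 7, 4, 9, 10, 5, 18, 13, 14, 19, 16, 21, 12, 15, 20, 17, 22, 23],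
 rinv := [0, 1, 6, 3, 8, 11, 2, 7, 4, 9, 10, 5, 18, 13, 14, 19, 16, 21, 12, 15, 20, 17, 22, 23],
 ep := [1, 1, -1, 1, -1, 1, -1, 1, -1, 1, 1, 1, 1, 1, 1, -1, 1, -1, 1, -1, 1, -1, 1, 1],
 pi := [3, 1, 2, 0],
 pinv := [3, 1, 2, 0] }

def symD4e : SCode := {
 rho := [0, 1, 3, 2, 4, 5, 6, 8, 7, 9, 11, 10, 13, 12, 14, 16, 15, 17, 18, 19, 21, 20, 22, 23],
 rinv := [0, 1, 3, 2, 4, 5, 6, 8, 7, 9, 11, 10, 13, 12, 14, 16, 15, 17, 18, 19, 21, 20, 22, 23],
 ep := [1, 1, 1, 1, 1, 1, 1, 1, 1, 1, 1, 1, 1, 1, 1, 1, 1, 1, 1, 1, 1, 1, 1, 1],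
 pi := [0, 1, 3, 2],
 pinv := [0, 1, 3, 2] }

theorem symD4c_easy : symD4c.easy chevD4 = true := by decide +kernel
theorem symD4c_rows : symD4c.rowsS chevD4 = true := by decide +kernel
theorem simp_D4c : simpOK symD4c chevD4 = true := by decide +kernel
theorem symD4d_easy : symD4d.easy chevD4 = true := by decide +kernel
theorem symD4d_rows : symD4d.rowsS chevD4 = true := by decide +kernel
theorem simp_D4d : simpOK symD4d chevD4 = true := by decide +kernel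
theorem symD4e_easy : symD4e.easy chevD4 = true := by decide +kernel
theorem symD4e_rows : symD4e.rowsS chevD4 = true := by decide +kernel
theorem simp_D4e : simpOK symD4e chevD4 = true := by decide +kernel

theorem graphExp_simply {D : ChevalleyDatum} (L : Simply D) (c : ℕ) (i : ℕ) (j : Fin D.rank) :
    D.graphExp c i j = 1 := by
  unfold ChevalleyDatum.graphExp
  rw [if_neg]
  rw [L.long j]; simp

/-- graph automorphisms from certificates -/
theorem isG_of_code {D : ChevalleyDatum} {F : Type*} [Field F] (R : Rel D F) (X : RCX D)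
    (L : Simply D) (C : Core D) {c : SCode} (h1 : c.easy D = true) (h2 : c.rowsS D = true)
    (h3 : simpOK c D = true) {ρ : Equiv.Perm (Fin D.rank)}
    (hρ : ∀ i : Fin D.rank, c.pi.getD i 0 = ρ i) (hsym : D.IsDiagramSymmetry ρ) :
    ∃ g, IsG R X g ρ := by
  obtain ⟨α, hα⟩ := s1081 C h1 h2 h3 (F := F)
  refine ⟨α, hsym, fun i t => ?_, fun i t => ?_⟩
  · rw [xe_eq_iff, (hα (xe R ((comb X).simple i) t) i t i.2).1 rfl, graphExp_simply L, pow_one, hρ]
    rfl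
  · rw [xe_eq_iff, (hα (xe R ((comb X).neg ((comb X).simple i)) t) i t i.2).2 rfl,
      graphExp_simply L, pow_one, hρ]
    rfl

def tD4 : List (List ℤ) := [[4, 1, 0, 0], [1, 4, 1, 1], [0, 1, 4, 0], [0, 1, 0, 4]]

theorem bondsD4 : ∀ i j : Fin 4, chevD4.bonds i j = tb tD4 i j := by
  have h1 : ((List.range 4).all fun i => (List.range 4).all fun j =>
      decide (chevD4.bonds i j = tb tD4 i j)) = true := by decide +kernel
  intro i j
  rw [List.all_eq_true] at h1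
  have h2 := h1 i (List.mem_range.2 i.2)
  rw [List.all_eq_true] at h2
  exact of_decide_eq_true (h2 j (List.mem_range.2 j.2))

theorem symD4_iff (ρ : Equiv.Perm (Fin 4)) : chevD4.IsDiagramSymmetry ρ ↔ ρ 1 = 1 := by
  have h : ∀ ρ : Equiv.Perm (Fin 4), (∀ i j : Fin 4, i ≠ j → tb tD4 (ρ i) (ρ j) = tb tD4 i j) ↔
      ρ 1 = 1 := by decide +kernel
  rw [← h]
  constructor
  · intro hs i j hij
    have := hs i j hij
    exact ((bondsD4 (ρ i) (ρ j)).symm.trans this).trans (bondsD4 i j)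
  · intro hs i j hij
    exact (bondsD4 (ρ i) (ρ j)).trans ((hs i j hij).trans (bondsD4 i j).symm)

theorem exists_D4 {F : Type*} [Field F] (R : Rel chevD4 F) (X : RCX chevD4)
    (ρ : Equiv.Perm (Fin 4)) (h : ρ 1 = 1) : ∃ g, IsG R X g ρ := by
  have hcases : ∀ ρ : Equiv.Perm (Fin 4), ρ 1 = 1 → ρ = 1 ∨
      (∀ i : Fin 4, [2, 1, 3, 0].getD i 0 = (ρ i : ℕ)) ∨
      (∀ i : Fin 4, [3, 1, 0, 2].getD i 0 = (ρ i : ℕ)) ∨
      (∀ i : Fin 4, [2, 1, 0, 3].getD i 0 = (ρ i : ℕ)) ∨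
      (∀ i : Fin 4, [3, 1, 2, 0].getD i 0 = (ρ i : ℕ)) ∨
      (∀ i : Fin 4, [0, 1, 3, 2].getD i 0 = (ρ i : ℕ)) := by decide +kernel
  have hsym := (symD4_iff ρ).2 h
  rcases hcases ρ h with rfl | h | h | h | h | h
  · exact ⟨_, isG_one R X⟩
  · exact isG_of_code R X slD4 H23.ChevCertD4.coreD4 symD4a_easy symD4a_rows simp_D4a h hsym
  · exact isG_of_code R X slD4 H23.ChevCertD4.coreD4 symD4b_easy symD4b_rows simp_D4b h hsym
  · exact isG_of_code R X slD4 H23.ChevCertD4.coreD4 symD4c_easy symD4c_rows simp_D4c h hsym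
  · exact isG_of_code R X slD4 H23.ChevCertD4.coreD4 symD4d_easy symD4d_rows simp_D4d h hsym
  · exact isG_of_code R X slD4 H23.ChevCertD4.coreD4 symD4e_easy symD4e_rows simp_D4e h hsym

theorem card_PG_D4 {F : Type*} [Field F] (R : Rel chevD4 F) (X : RCX chevD4) :
    Nat.card (PG R X) = 6 := by
  have e : PG R X ≃ {ρ : Equiv.Perm (Fin 4) // ρ 1 = 1} :=
    { toFun := fun ρ => ⟨ρ.1, by obtain ⟨g, hg⟩ := ρ.2; exact (symD4_iff ρ.1).1 hg.sym⟩
      invFun := fun ρ => ⟨ρ.1, exists_D4 R X ρ.1 ρ.2⟩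
      left_inv := fun _ => rfl
      right_inv := fun _ => rfl }
  rw [Nat.card_congr e, Nat.card_eq_fintype_card]
  decide +kernel

section general

variable {D : ChevalleyDatum} {F : Type*} [Field F] (R : Rel D F) (X : RCX D)

theorem card_PG_or {τ : Equiv.Perm (Fin D.rank)} (h : ∀ ρ g, IsG R X g ρ → ρ = 1 ∨ ρ = τ) :
    Nat.card (PG R X) = 1 ∨ Nat.card (PG R X) = 2 := by
  by_cases hτ : τ = 1
  · left
    apply card_PG_one
    intro ρ g hg
    rcases h ρ g hg with h | h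
    · exact h
    · rw [h, hτ]
  · by_cases hg : ∃ g, IsG R X g τ
    · exact Or.inr (card_PG_two R X hτ hg h)
    · left
      apply card_PG_one
      intro ρ g hg'
      rcases h ρ g hg' with h | h
      · exact h
      · exact absurd ⟨g, h ▸ hg'⟩ hg

/-- composition of graph automorphisms in the simply laced case -/
theorem isG_mul (L : Simply D) {g g' : MulAut ↥(D.group F)} {ρ ρ' : Equiv.Perm (Fin D.rank)}
    (h : IsG R X g ρ) (h' : IsG R X g' ρ') : IsG R X (g * g' : MulAut ↥(D.group F)) (ρ * ρ') := by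
  refine ⟨fun i j hij => ?_, fun i t => ?_, fun i t => ?_⟩
  · rw [Equiv.Perm.mul_apply, Equiv.Perm.mul_apply, h.sym _ _ (fun e => hij (ρ'.injective e)),
      h'.sym i j hij]
  · rw [graphExp_simply L, pow_one, MulAut.mul_apply, h'.pos, graphExp_simply L, pow_one, h.pos,
      graphExp_simply L, pow_one]
    rfl
  · rw [graphExp_simply L, pow_one, MulAut.mul_apply, h'.neg, graphExp_simply L, pow_one, h.neg,
      graphExp_simply L, pow_one]
    rfl

variable [Finite F]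

theorem not_comm (L : Simply D) (Z : Diag X) (FP : FieldProp D F) (h0 : 0 < D.rank)
    {ρ ρ' : PG R X} (h : ρ.1 * ρ'.1 ≠ ρ'.1 * ρ.1) :
    ¬ commutator (Cfsg.Out ↥(D.group F)) ≤ Db R X ⊔ Fb (D := D) (F := F) := by
  intro hle
  have h1 := isG_mul R X L (gA_spec R X ρ) (gA_spec R X ρ')
  have h2 := isG_mul R X L (gA_spec R X ρ') (gA_spec R X ρ)
  set τ : PG R X := ⟨ρ'.1 * ρ.1, _, h2⟩ with hτ
  set τ' : PG R X := ⟨ρ.1 * ρ'.1, _, h1⟩ with hτ'
  have e1 : (gA R X τ' : MulAut ↥(D.group F)) = gA R X ρ * gA R X ρ' := (gA_spec R X τ').eq h1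
  have e2 : (gA R X τ : MulAut ↥(D.group F)) = gA R X ρ' * gA R X ρ := (gA_spec R X τ).eq h2
  apply h
  have h3 : τ' = τ := by
    apply (gA_inj R X Z FP h0 _).symm
    apply hle
    rw [e1, e2, QuotientGroup.mk_mul, QuotientGroup.mk_mul]
    have h4 : ∀ a b : Cfsg.Out ↥(D.group F), (b * a)⁻¹ * (a * b) = ⁅a⁻¹, b⁻¹⁆ := by
      intro a b; rw [commutatorElement_def]; group
    rw [h4]
    exact Subgroup.commutator_mem_commutator (Subgroup.mem_top _) (Subgroup.mem_top _)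
  exact congrArg Subtype.val h3

end general

theorem perm2_cases (ρ : Equiv.Perm (Fin 2)) : ρ = 1 ∨ ρ = Equiv.swap 0 1 := by
  revert ρ; decide

theorem permF4_cases (ρ : Equiv.Perm (Fin 4)) (hρ : chevF4.IsDiagramSymmetry ρ) :
    ρ = 1 ∨ ρ = ⟨![3, 2, 1, 0], ![3, 2, 1, 0], by decide, by decide⟩ := by
  have h : ∀ ρ : Equiv.Perm (Fin 4), ((ρ 0 = 0 ∧ ρ 1 = 1 ∧ ρ 2 = 2 ∧ ρ 3 = 3) ∨
    (ρ 0 = 3 ∧ ρ 1 = 2 ∧ ρ 2 = 1 ∧ ρ 3 = 0)) →
      ρ = 1 ∨ ρ = ⟨![3, 2, 1, 0], ![3, 2, 1, 0], by decide, by decide⟩ := by decide +kernel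
  exact h ρ (permF4 ρ hρ)

/-- S2159 -/
theorem outer_structure {F : Type*} [Field F] [Finite F] (D : ChevalleyDatum)
    (hD : D ∈ [chevG2, chevB2, chevD4, chevF4, chevE6, chevE7, chevE8])
    (Dbar Fbar : Subgroup (Cfsg.Out ↥(D.group F)))
    (hDbar : Dbar = (Subgroup.closure {φ : MulAut ↥(D.group F) | D.IsDiagonalAut φ}).map
      (QuotientGroup.mk' (Cfsg.Inn ↥(D.group F))))
    (hFbar : Fbar = (Subgroup.closure {φ : MulAut ↥(D.group F) | D.IsFieldAut φ}).map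
      (QuotientGroup.mk' (Cfsg.Inn ↥(D.group F)))) :
    Dbar.Normal ∧ IsMulCommutative ↥Dbar ∧ IsCyclic ↥Fbar ∧ (Dbar ⊔ Fbar).Normal ∧
      ((Dbar ⊔ Fbar).index = 1 ∨ (Dbar ⊔ Fbar).index = 2 ∨
        ((Dbar ⊔ Fbar).index = 6 ∧ ¬ commutator (Cfsg.Out ↥(D.group F)) ≤ Dbar ⊔ Fbar)) := by
  have gen : ∀ (R : Rel D F) (X : RCX D) (Z : Diag X) (FP : FieldProp D F) (h0 : 0 < D.rank),
      (Nat.card (PG R X) = 1 ∨ Nat.card (PG R X) = 2 ∨ (Nat.card (PG R X) = 6 ∧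
        ¬ commutator (Cfsg.Out ↥(D.group F)) ≤ Db R X ⊔ Fb (D := D) (F := F))) →
      Dbar.Normal ∧ IsMulCommutative ↥Dbar ∧ IsCyclic ↥Fbar ∧ (Dbar ⊔ Fbar).Normal ∧
      ((Dbar ⊔ Fbar).index = 1 ∨ (Dbar ⊔ Fbar).index = 2 ∨
        ((Dbar ⊔ Fbar).index = 6 ∧ ¬ commutator (Cfsg.Out ↥(D.group F)) ≤ Dbar ⊔ Fbar)) := by
    intro R X Z FP h0 h
    have e1 : Dbar = Db R X := by rw [hDbar, closure_diag R X]; rfl
    have e2 : Fbar = Fb (D := D) (F := F) := by rw [hFbar, closure_field R X]; rfl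
    subst e1
    subst e2
    rw [index_sup R X Z FP h0]
    exact ⟨Db_normal R X Z FP, Db_comm R X, Fb_cyclic, sup_normal R X Z FP, h⟩
  have hR := H22.ChevAll.rel D hD F
  simp only [List.mem_cons, List.not_mem_nil, or_false] at hD
  rcases hD with rfl | rfl | rfl | rfl | rfl | rfl | rfl
  · refine gen hR H22.PoinG2.rcxG2 diagG2 (fpG2 F) (by decide) ?_
    rcases card_PG_or hR H22.PoinG2.rcxG2 (τ := (Equiv.swap 0 1 : Equiv.Perm (Fin 2)))
      (fun ρ _ _ => perm2_cases ρ) with h | h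
    · exact Or.inl h
    · exact Or.inr (Or.inl h)
  · refine gen hR H22.PoinB2.rcxB2 diagB2 (fpB2 F) (by decide) ?_
    rcases card_PG_or hR H22.PoinB2.rcxB2 (τ := (Equiv.swap 0 1 : Equiv.Perm (Fin 2)))
      (fun ρ _ _ => perm2_cases ρ) with h | h
    · exact Or.inl h
    · exact Or.inr (Or.inl h)
  · refine gen hR H22.PoinD4.rcxD4 diagD4 (fpD4 F) (by decide) (Or.inr (Or.inr ⟨card_PG_D4 _ _, ?_⟩))
    let a : Equiv.Perm (Fin 4) := Equiv.swap 0 2
    let b : Equiv.Perm (Fin 4) := Equiv.swap 0 3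
    exact not_comm hR H22.PoinD4.rcxD4 slD4 diagD4 (fpD4 F) (by decide)
      (ρ := ⟨a, exists_D4 _ _ a (by decide)⟩) (ρ' := ⟨b, exists_D4 _ _ b (by decide)⟩)
      (show a * b ≠ b * a by decide)
  · refine gen hR H22.PoinF4.rcxF4 diagF4 (fpF4 F) (by decide) ?_
    rcases card_PG_or hR H22.PoinF4.rcxF4 (fun ρ g hg => permF4_cases ρ hg.sym) with h | h
    · exact Or.inl h
    · exact Or.inr (Or.inl h)
  · refine gen hR H22.PoinE6.rcxE6 diagE6 (fpE6 F) (by decide) ?_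
    rcases card_PG_or hR H22.PoinE6.rcxE6 (fun ρ g hg => symE6' ρ hg.sym) with h | h
    · exact Or.inl h
    · exact Or.inr (Or.inl h)
  · refine gen hR H22.PoinE7.rcxE7 diagE7 (fpE7 F) (by decide) (Or.inl ?_)
    exact card_PG_one hR H22.PoinE7.rcxE7 (fun ρ g hg => symE7 ρ hg.sym)
  · refine gen hR H22.PoinE8.rcxE8 diagE8 (fpE8 F) (by decide) (Or.inl ?_)
    exact card_PG_one hR H22.PoinE8.rcxE8 (fun ρ g hg => symE8 ρ hg.sym)

end H40.ChevAut
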