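import Cfsg.Agent.Lib.H40.XRep
import Cfsg.Agent.Lib.H35.TCFi22A.Chk

/-!
# 27-dimensional matrices over the field with four elements for the triple cover of Fi22
-/

set_option autoImplicit false
set_option maxRecDepth 100000
set_option linter.all false
set_option Elab.async false

namespace H40.Fi22E

open H40.XRep
open H35.TCFi22A (Lt mm)

/-- the non-trivial rows of the matrices minus one; the coordinate `a + b ω` is a pair of bits -/
noncomputable def nl : Lt → List (ℕ × ℕ)
  | .a => [(nat_lit 14, nat_lit 277), (nat_lit 15, nat_lit 554), (nat_lit 24, nat_lit 69697), (nat_lit 25, nat_lit 139394), (nat_lit 32, nat_lit 71303236), (nat_lit 33, nat_lit 142606472), (nat_lit 40, nat_lit 17184067600), (nat_lit 41, nat_lit 34368135200), (nat_lit 46, nat_lit 17247043840), (nat_lit 47, nat_lit 34494087680), (nat_lit 48, nat_lit 4399121302528), (nat_lit 49, nat_lit 8798242605056), (nat_lit 52, nat_lit 1125968895016960), (nat_lit 53, nat_lit 2251937790033920)]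
  | .b => [(nat_lit 8, nat_lit 16640), (nat_lit 9, nat_lit 33280), (nat_lit 14, nat_lit 16640), (nat_lit 15, nat_lit 33280), (nat_lit 16, nat_lit 16842752), (nat_lit 17, nat_lit 33685504), (nat_lit 24, nat_lit 16842752), (nat_lit 25, nat_lit 33685504), (nat_lit 26, nat_lit 4362076160), (nat_lit 27, nat_lit 8724152320), (nat_lit 32, nat_lit 4362076160), (nat_lit 33, nat_lit 8724152320), (nat_lit 34, nat_lit 1116691496960), (nat_lit 35, nat_lit 2233382993920), (nat_lit 40, nat_lit 1116691496960), (nat_lit 41, nat_lit 2233382993920), (nat_lit 42, nat_lit 285873023221760), (nat_lit 43, nat_lit 571746046443520), (nat_lit 48, nat_lit 285873023221760), (nat_lit 49, nat_lit 571746046443520), (nat_lit 50, nat_lit 5629499534213120), (nat_lit 51, nat_lit 11258999068426240), (nat_lit 52, nat_lit 5629499534213120), (nat_lit 53, nat_lit 11258999068426240)]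
  | .c => [(nat_lit 4, nat_lit 272), (nat_lit 5, nat_lit 544), (nat_lit 8, nat_lit 272), (nat_lit 9, nat_lit 544), (nat_lit 10, nat_lit 272), (nat_lit 11, nat_lit 544), (nat_lit 12, nat_lit 69632), (nat_lit 13, nat_lit 139264), (nat_lit 16, nat_lit 69632), (nat_lit 17, nat_lit 139264), (nat_lit 18, nat_lit 272), (nat_lit 19, nat_lit 544), (nat_lit 20, nat_lit 69632), (nat_lit 21, nat_lit 139264), (nat_lit 22, nat_lit 71303168), (nat_lit 23, nat_lit 142606336), (nat_lit 26, nat_lit 71303168), (nat_lit 27, nat_lit 142606336), (nat_lit 28, nat_lit 69632), (nat_lit 29, nat_lit 139264), (nat_lit 30, nat_lit 71303168), (nat_lit 31, nat_lit 142606336), (nat_lit 36, nat_lit 71303168), (nat_lit 37, nat_lit 142606336), (nat_lit 38, nat_lit 13247963073024), (nat_lit 39, nat_lit 4418652278528), (nat_lit 40, nat_lit 71468255805440), (nat_lit 41, nat_lit 142936511610880), (nat_lit 44, nat_lit 3377889370833408), (nat_lit 45, nat_lit 1126124252758784), (nat_lit 46, nat_lit 71468255805440), (nat_lit 47, nat_lit 142936511610880), (nat_lit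 48, nat_lit 75886719155248), (nat_lit 49, nat_lit 151768043361296), (nat_lit 52, nat_lit 1197592319635504), (nat_lit 53, nat_lit 2394839677407248)]
  | .d => [(nat_lit 2, nat_lit 20), (nat_lit 3, nat_lit 40), (nat_lit 4, nat_lit 20), (nat_lit 5, nat_lit 40), (nat_lit 6, nat_lit 4160), (nat_lit 7, nat_lit 8320), (nat_lit 12, nat_lit 4160), (nat_lit 13, nat_lit 8320), (nat_lit 26, nat_lit 17246978048), (nat_lit 27, nat_lit 34493956096), (nat_lit 30, nat_lit 275951648768), (nat_lit 31, nat_lit 551903297536), (nat_lit 32, nat_lit 1103806595072), (nat_lit 33, nat_lit 2207613190144), (nat_lit 34, nat_lit 17246978048), (nat_lit 35, nat_lit 34493956096), (nat_lit 36, nat_lit 17660905521152), (nat_lit 37, nat_lit 35321811042304), (nat_lit 38, nat_lit 275951648768), (nat_lit 39, nat_lit 551903297536), (nat_lit 40, nat_lit 1103806595072), (nat_lit 41, nat_lit 2207613190144), (nat_lit 42, nat_lit 275951648768), (nat_lit 43, nat_lit 551903297536), (nat_lit 44, nat_lit 17660905521152), (nat_lit 45, nat_lit 35321811042304), (nat_lit 48,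 nat_lit 275951648768), (nat_lit 49, nat_lit 551903297536), (nat_lit 50, nat_lit 17660905521152), (nat_lit 51, nat_lit 35321811042304), (nat_lit 52, nat_lit 17660905521152), (nat_lit 53, nat_lit 35321811042304)]
  | .e => [(nat_lit 4, nat_lit 1040), (nat_lit 5, nat_lit 2080), (nat_lit 8, nat_lit 1040), (nat_lit 9, nat_lit 2080), (nat_lit 10, nat_lit 1040), (nat_lit 11, nat_lit 2080), (nat_lit 12, nat_lit 1052672), (nat_lit 13, nat_lit 2105344), (nat_lit 14, nat_lit 1040), (nat_lit 15, nat_lit 2080), (nat_lit 16, nat_lit 1052672), (nat_lit 17, nat_lit 2105344), (nat_lit 20, nat_lit 1052672), (nat_lit 21, nat_lit 2105344), (nat_lit 22, nat_lit 1077936128), (nat_lit 23, nat_lit 2155872256), (nat_lit 24, nat_lit 1052672), (nat_lit 25, nat_lit 2105344), (nat_lit 26, nat_lit 1077936128), (nat_lit 27, nat_lit 2155872256), (nat_lit 30, nat_lit 1077936128), (nat_lit 31, nat_lit 2155872256), (nat_lit 32, nat_lit 1077936128), (nat_lit 33, nat_lit 2155872256), (nat_lit 34, nat_lit 4415226380288), (nat_lit 35, nat_lit 8830452760576),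 (nat_lit 40, nat_lit 282574488338432), (nat_lit 41, nat_lit 565148976676864), (nat_lit 42, nat_lit 4415226380288), (nat_lit 43, nat_lit 8830452760576), (nat_lit 44, nat_lit 143324570093056), (nat_lit 45, nat_lit 215159325575936), (nat_lit 46, nat_lit 286992951688240), (nat_lit 47, nat_lit 573980508427280), (nat_lit 48, nat_lit 282574488338432), (nat_lit 49, nat_lit 565148976676864)]
  | .f => [(nat_lit 10, nat_lit 263168), (nat_lit 11, nat_lit 526336), (nat_lit 18, nat_lit 263168), (nat_lit 19, nat_lit 526336), (nat_lit 20, nat_lit 269484032), (nat_lit 21, nat_lit 538968064), (nat_lit 28, nat_lit 269484032), (nat_lit 29, nat_lit 538968064), (nat_lit 30, nat_lit 69793218560), (nat_lit 31, nat_lit 139586437120), (nat_lit 36, nat_lit 69793218560), (nat_lit 37, nat_lit 139586437120), (nat_lit 38, nat_lit 17867063951360), (nat_lit 39, nat_lit 35734127902720), (nat_lit 42, nat_lit 1130297953353728), (nat_lit 43, nat_lit 2260595906707456), (nat_lit 44, nat_lit 17867063951360), (nat_lit 45, nat_lit 35734127902720), (nat_lit 48,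 nat_lit 4785074604081152), (nat_lit 49, nat_lit 9570149208162304), (nat_lit 50, nat_lit 1130297953353728), (nat_lit 51, nat_lit 2260595906707456), (nat_lit 52, nat_lit 4785074604081152), (nat_lit 53, nat_lit 9570149208162304)]
  | .g => [(nat_lit 18, nat_lit 1045), (nat_lit 19, nat_lit 2090), (nat_lit 28, nat_lit 1052737), (nat_lit 29, nat_lit 2105474), (nat_lit 36, nat_lit 1077936196), (nat_lit 37, nat_lit 2155872392), (nat_lit 44, nat_lit 274882105360), (nat_lit 45, nat_lit 549764210720), (nat_lit 50, nat_lit 4415297753360), (nat_lit 51, nat_lit 8830595506720), (nat_lit 52, nat_lit 282578804297744), (nat_lit 53, nat_lit 565157608595488)]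
  | .h => [(nat_lit 0, nat_lit 5), (nat_lit 1, nat_lit 10), (nat_lit 2, nat_lit 5), (nat_lit 3, nat_lit 10), (nat_lit 12, nat_lit 4198400), (nat_lit 13, nat_lit 8396800), (nat_lit 16, nat_lit 67174400), (nat_lit 17, nat_lit 134348800), (nat_lit 20, nat_lit 1074790400), (nat_lit 21, nat_lit 2149580800), (nat_lit 22, nat_lit 4198400), (nat_lit 23, nat_lit 8396800), (nat_lit 24, nat_lit 4311744512), (nat_lit 25, nat_lit 8623489024), (nat_lit 26, nat_lit 67174400), (nat_lit 27, nat_lit 134348800), (nat_lit 28, nat_lit 68987912192), (nat_lit 29, nat_lit 137975824384), (nat_lit 30, nat_lit 1074790400), (nat_lit 31, nat_lit 2149580800), (nat_lit 32, nat_lit 4311744512), (nat_lit 33, nat_lit 8623489024), (nat_lit 36, nat_lit 68987912192), (nat_lit 37, nat_lit 137975824384)]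
  | .i => [(nat_lit 2, nat_lit 68), (nat_lit 3, nat_lit 136), (nat_lit 4, nat_lit 4112), (nat_lit 5, nat_lit 8224), (nat_lit 6, nat_lit 68), (nat_lit 7, nat_lit 136), (nat_lit 8, nat_lit 65792), (nat_lit 9, nat_lit 131584), (nat_lit 10, nat_lit 1049600), (nat_lit 11, nat_lit 2099200), (nat_lit 12, nat_lit 4112), (nat_lit 13, nat_lit 8224), (nat_lit 14, nat_lit 16793600), (nat_lit 15, nat_lit 33587200), (nat_lit 16, nat_lit 65792), (nat_lit 17, nat_lit 131584), (nat_lit 18, nat_lit 268697600), (nat_lit 19, nat_lit 537395200), (nat_lit 20, nat_lit 1049600), (nat_lit 21, nat_lit 2099200), (nat_lit 24, nat_lit 16793600), (nat_lit 25, nat_lit 33587200), (nat_lit 28, nat_lit 268697600), (nat_lit 29, nat_lit 537395200)]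

/-- the spider word -/
def wS : List Lt := [.d, .c, .b, .d, .e, .f, .d, .h, .i]
/-- an E7 word -/
def w7 : List Lt := [.a, .b, .c, .d, .e, .f, .h]
/-- an E7 word -/
def w8 : List Lt := [.b, .c, .d, .e, .f, .g, .h]
/-- repetition of a word -/
def rp (n : ℕ) (w : List Lt) : List Lt := (List.replicate n w).flatten

theorem small_nl (x : Lt) : small 54 (nl x) = true := by
  cases x <;> decide +kernel
theorem sq_nl (x : Lt) : chkT nl [x, x] 54 = true := by
  cases x <;> decide +kernel
theorem pr_a (y : Lt) : chkT nl (rp (mm .a y) [.a, y]).reverse 54 = true := by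
  cases y <;> decide +kernel
theorem pr_b (y : Lt) : chkT nl (rp (mm .b y) [.b, y]).reverse 54 = true := by
  cases y <;> decide +kernel
theorem pr_c (y : Lt) : chkT nl (rp (mm .c y) [.c, y]).reverse 54 = true := by
  cases y <;> decide +kernel
theorem pr_d (y : Lt) : chkT nl (rp (mm .d y) [.d, y]).reverse 54 = true := by
  cases y <;> decide +kernel
theorem pr_e (y : Lt) : chkT nl (rp (mm .e y) [.e, y]).reverse 54 = true := by
  cases y <;> decide +kernel
theorem pr_f (y : Lt) : chkT nl (rp (mm .f y) [.f, y]).reverse 54 = true := by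
  cases y <;> decide +kernel
theorem pr_g (y : Lt) : chkT nl (rp (mm .g y) [.g, y]).reverse 54 = true := by
  cases y <;> decide +kernel
theorem pr_h (y : Lt) : chkT nl (rp (mm .h y) [.h, y]).reverse 54 = true := by
  cases y <;> decide +kernel
theorem pr_i (y : Lt) : chkT nl (rp (mm .i y) [.i, y]).reverse 54 = true := by
  cases y <;> decide +kernel
theorem pr (x y : Lt) : chkT nl (rp (mm x y) [x, y]).reverse 54 = true := by
  cases x
  · exact pr_a y
  · exact pr_b y
  · exact pr_c y
  · exact pr_d y
  · exact pr_e y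
  · exact pr_f y
  · exact pr_g y
  · exact pr_h y
  · exact pr_i y
theorem e7 : chkT nl (rp 9 w7).reverse 54 = true := by decide +kernel
theorem e8 : chkT nl (rp 9 w8).reverse 54 = true := by decide +kernel
theorem s30 : chkT nl (rp 30 wS).reverse 54 = true := by decide +kernel
theorem s10 (x : Lt) : chkT nl (rp 10 wS ++ [x] ++ (rp 10 wS).reverse ++ [x]).reverse 54 = true := by
  cases x <;> decide +kernel
theorem ne : Nat.beq (run nl (rp 10 wS).reverse 1) 1 = false := by decide +kernel

end H40.Fi22E
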