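import Cfsg.Agent.Lib.H40.CL2
import Cfsg.Agent.Lib.H40.PGS
import Cfsg.Agent.Lib.H92.Expl23
import Cfsg.Agent.Lib.H34.Fi23Z

/-!
# The Schur multiplier of the presented group Fi23: words and certificates
-/

set_option autoImplicit false
set_option maxRecDepth 100000
set_option linter.all false
set_option Elab.async false

namespace H40.Fi23M

open H35.TC H35.Net H35.Fi23Main H35 H34.Fi23Z
open H35.TCFi23A (Lt)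

/-- the element of order three -/
def wX : List Lt := [.d, .e, .f, .c, .d, .e, .b, .c, .d, .h, .d, .e, .f, .c, .d, .e, .b, .c, .d, .h, .i, .d, .e, .f, .c, .d, .e, .b, .c, .d, .h, .d, .e, .f, .c, .d, .e, .b, .c, .d, .h, .i]
/-- the element moving it -/
def wc : List Lt := [.d, .h, .e, .f, .d, .e, .c, .d, .h, .b, .c, .d]
/-- the translation -/
def wZ : List Lt := [.i, .h, .c, .d, .e, .b, .c, .d, .h, .i, .f, .e, .d, .h, .c, .d, .e, .b, .c, .d, .h, .i, .f, .e, .d, .h, .c, .d, .e, .b, .c, .d, .h, .i, .f, .e, .d, .h, .c, .d, .e, .b, .c, .d, .h, .f, .e, .d]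
/-- a transposition commuting with `wX` -/
def wm : List Lt := [.g, .f, .e, .d, .h, .i, .c, .d, .h, .j, .g, .f, .e, .d, .c, .b, .c, .d, .e, .f, .g, .j, .h, .d, .c, .i, .h, .d, .e, .f, .g]
/-- conjugating words -/
def wa : List Lt := [.c]
/-- conjugating words -/
def wb : List Lt := [.h, .f, .e, .d]
/-- the spider word -/
def wS : List Lt := [.d, .c, .b, .d, .e, .f, .d, .h, .i]
/-- first word equal to one in the affine group -/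
def wJ1 : List Lt := wc ++ wX ++ wc.reverse ++ wX.reverse ++ wZ.reverse
/-- second word equal to one in the affine group -/
def wJ2 : List Lt := (List.replicate 10 wS).flatten ++ (wa ++ wZ.reverse ++ wa.reverse ++ wb ++ wZ.reverse ++ wb.reverse).reverse

theorem chk1 : H40.Rew.chk TCFi23A.mm wJ1 [11, 10, 11, 12, 9, 10, 11, 12, 13, 8, 9, 5, 6, 8, 9, 11, 12, 13, 15, 11, 4, 6, 7, 8, 9, 11, 13, 14, 7, 8, 9, 6, 1, 2, 3, 4, 6, 8, 9, 11, 12, 13, 8, 9, 7, 2, 3, 4, 5, 7, 9, 11, 12, 4, 5, 1, 2, 4, 5, 7, 8, 9, 11, 7, 0, 2, 3, 4, 5, 7, 9, 10, 9, 10, 11, 13, 14, 8, 9, 11, 12, 13, 14, 15, 6, 7, 9, 10, 11, 12, 13, 14, 15, 16, 41, 29, 30, 31, 27, 29, 30, 31, 33, 34, 35, 36, 37, 38, 39, 41, 43, 38, 39, 36, 26, 27, 29, 30, 31, 33, 34, 35, 36, 38, 39, 41, 42, 43, 44, 35, 36, 37, 25, 26, 27, 29, 30, 31, 33, 35, 36, 37, 39, 40, 41, 42, 43,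 44, 45, 40, 41, 32, 24, 17, 19, 20, 21, 22, 24, 26, 27, 28, 29, 30, 32, 34, 35, 36, 37, 38, 40, 41, 43, 44, 45, 47, 43, 15, 16, 17, 19, 20, 22, 23, 24, 26, 27, 28, 30, 31, 32, 34, 35, 36, 38, 39, 40, 41, 43, 45, 46, 39, 40, 41, 38, 22, 13, 14, 15, 16, 17, 19, 20, 22, 24, 25, 26, 28, 29, 30, 31, 32, 34, 35, 36, 38, 40, 41, 43, 44, 45, 40, 41, 39, 25, 26, 27, 28, 24, 25, 23, 11, 12, 13, 10, 6, 7, 8, 10, 12, 13, 15, 16, 17, 18, 19, 20, 21, 23, 25, 27, 28, 30, 31, 32, 33, 34, 35, 36, 37, 39, 41, 43, 44, 36, 37, 20, 21, 5, 6, 8, 9, 10, 12, 13, 15, 16, 17, 18, 20, 21, 23, 24, 25, 27, 28, 30, 31, 32, 33, 34, 36, 37, 39, 40, 41, 43, 39, 23, 8, 4, 5, 6, 8, 10, 11, 12, 13, 15, 16, 18, 19, 20, 21, 23, 25, 26, 27, 28, 30, 31, 32, 34, 35, 36, 37, 39, 41, 42, 44, 41, 42, 30, 31, 32, 33, 34, 29, 30, 28, 25, 26, 15, 16, 17, 18, 14, 10,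 11, 12, 14, 16, 17, 18, 20, 21, 22, 23, 24, 25, 26, 28, 30, 32, 33, 34, 36, 37, 38, 39, 40, 41, 42, 44, 46, 41, 42, 39, 25, 26, 23, 9, 10, 12, 13, 14, 16, 17, 18, 20, 21, 22, 23, 25, 26, 28, 29, 30, 32, 33, 34, 36, 37, 38, 39, 41, 42, 44, 45, 46, 47, 38, 39, 40, 36, 22, 23, 24, 20, 7, 8, 10, 11, 12, 13, 14, 16, 17, 18, 20, 22, 23, 24, 26, 27, 28, 29, 30, 32, 33, 34, 36, 38, 39, 40, 42, 43, 44, 45, 46, 47, 48, 43, 44, 35, 27, 19, 11, 7, 8, 9, 11, 13, 14, 15, 16, 17, 19, 21, 22, 23, 24, 25, 27, 29, 30, 31, 32, 33, 35, 37, 38, 39, 40, 41, 43, 44, 46, 47, 48, 50, 46, 6, 7, 9, 10, 11, 13, 14, 15, 17, 18, 19, 21, 22, 23, 25, 26, 27, 29, 30, 31, 33, 34, 35, 37, 38, 39, 41, 42, 43, 44, 46, 48, 49, 42, 43, 44, 41, 25, 9, 5, 6, 7, 9, 11, 12, 13, 15, 16, 17, 18, 19, 21, 22, 23, 25, 27, 28, 29, 31, 32, 33, 34, 35, 37, 38, 39, 41,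 43, 44, 46, 47, 48, 43, 44, 42, 28, 29, 30, 31, 27, 28, 26, 12, 13, 14, 15, 11, 12, 10, 3, 4, 5, 6, 7, 8, 10, 12, 14, 15, 17, 18, 19, 20, 21, 22, 23, 24, 26, 28, 30, 31, 33, 34, 35, 36, 37, 38, 39, 40, 42, 44, 46, 47, 39, 40, 23, 24, 7, 8, 2, 3, 4, 5, 7, 8, 10, 11, 12, 14, 15, 17, 18, 19, 20, 21, 23, 24, 26, 27, 28, 30, 31, 33, 34, 35, 36, 37, 39, 40, 42, 43, 44, 46, 42, 26, 10, 1, 2, 3, 5, 6, 7, 8, 10, 12, 13, 14, 15, 17, 18, 19, 21, 22, 23, 24, 26, 28, 29, 30, 31, 33, 34, 35, 37, 38, 39, 40, 42, 44, 45, 47, 46, 45, 44, 43, 42, 38, 39, 40, 41, 40, 39, 37, 38, 37, 36, 35, 34, 33, 32, 31, 30, 29, 28, 27, 25, 26, 25, 24, 23, 17, 18, 19, 20, 21, 22, 21, 20, 19, 18, 17, 16, 15, 12, 13, 14, 13, 11, 12, 10, 11, 6, 7, 8, 9, 10, 9, 8, 7, 6, 1, 2, 3, 4, 5, 4, 3, 0, 1, 2, 1, 0] = true := by decide +kernel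
theorem chk2 : H40.Rew.chk TCFi23A.mm wJ2 [80, 81, 82, 83, 84, 85, 86, 87, 89, 85, 86, 87, 88, 83, 85, 86, 87, 78, 80, 81, 82, 83, 85, 86, 85, 84, 74, 75, 76, 77, 78, 79, 81, 82, 84, 72, 74, 75, 76, 77, 79, 80, 82, 83, 79, 80, 78, 68, 69, 70, 71, 72, 73, 75, 76, 78, 80, 82, 81, 79, 80, 66, 68, 69, 70, 71, 73, 74, 76, 77, 78, 79, 69, 70, 71, 72, 68, 56, 57, 58, 59, 60, 61, 62, 63, 65, 66, 68, 70, 71, 72, 74, 75, 76, 77, 78, 71, 72, 73, 70, 71, 69, 61, 62, 63, 64, 65, 66, 67, 69, 71, 73, 75, 76, 77, 74, 75, 76, 72, 66, 67, 59, 61, 62, 63, 64, 66, 67, 69, 70, 71, 72, 74, 75, 69, 70, 54, 56, 57, 58, 59, 61, 62, 64, 65, 66, 67, 69, 70, 72, 73, 74, 61, 62, 63, 64, 60, 50, 51, 52, 53, 54, 55, 57, 58, 60, 62, 63, 64, 66, 67, 68, 69, 70, 71, 73, 48, 50, 51, 52, 53, 55, 56, 58, 59, 60, 62, 63, 64, 66, 67, 68, 69, 71, 72, 71, 72,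 70, 71, 55, 56, 54, 44, 45, 46, 47, 48, 49, 51, 52, 54, 56, 58, 59, 60, 61, 62, 63, 64, 65, 67, 68, 70, 57, 55, 42, 44, 45, 46, 47, 49, 50, 52, 53, 54, 55, 57, 59, 60, 61, 62, 63, 65, 66, 68, 69, 60, 61, 62, 63, 64, 59, 60, 58, 56, 45, 46, 47, 48, 44, 32, 33, 34, 35, 36, 37, 38, 39, 41, 42, 44, 46, 47, 48, 50, 51, 52, 53, 54, 55, 56, 58, 60, 62, 63, 64, 66, 67, 68, 63, 64, 65, 62, 63, 61, 47, 48, 49, 46, 47, 45, 37, 38, 39, 40, 41, 42, 43, 45, 47, 49, 51, 52, 53, 54, 55, 56, 57, 58, 59, 61, 63, 65, 67, 66, 64, 65, 62, 63, 64, 58, 59, 50, 51, 48, 42, 43, 35, 37, 38, 39, 40, 42, 43, 45, 46, 47, 48, 50, 51, 53, 54, 55, 56, 58, 59, 61, 62, 63, 53, 54, 45, 46, 30, 32, 33, 34, 35, 37, 38, 40, 41, 42, 43, 45, 46, 48, 49, 50, 51, 53, 54, 56, 57, 58, 59, 61, 62, 49, 50, 51, 52, 48, 33, 34, 35, 36, 32, 20, 21, 22, 23, 24, 25, 26,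 27, 29, 30, 32, 34, 35, 36, 38, 39, 40, 41, 42, 43, 45, 46, 48, 50, 51, 52, 54, 55, 56, 57, 58, 59, 61, 51, 52, 53, 54, 55, 50, 51, 49, 35, 36, 37, 38, 39, 34, 35, 33, 25, 26, 27, 28, 29, 30, 31, 33, 35, 37, 38, 39, 41, 42, 43, 44, 45, 46, 47, 49, 51, 53, 54, 55, 57, 58, 59, 60, 46, 47, 30, 31, 23, 25, 26, 27, 28, 30, 31, 33, 34, 35, 37, 38, 39, 41, 42, 43, 44, 46, 47, 49, 50, 51, 53, 54, 55, 57, 58, 59, 49, 33, 18, 20, 21, 22, 23, 25, 26, 28, 29, 30, 31, 33, 35, 36, 37, 38, 39, 41, 42, 44, 45, 46, 47, 49, 51, 52, 53, 54, 55, 57, 58, 52, 53, 54, 55, 56, 51, 52, 50, 48, 36, 37, 38, 39, 40, 35, 36, 34, 32, 21, 22, 23, 24, 20, 8, 9, 10, 11, 12, 13, 14, 15, 17, 18, 20, 22, 23, 24, 26, 27, 28, 29, 30, 31, 32, 34, 36, 38, 39, 40, 42, 43, 44, 45, 46, 47, 48, 50, 52, 54, 55, 56, 58, 55, 56, 57, 54, 55, 56, 53, 39, 40, 41, 42,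 43, 38, 39, 37, 23, 24, 25, 26, 27, 22, 23, 21, 13, 14, 15, 16, 17, 18, 19, 21, 23, 25, 26, 27, 29, 30, 31, 32, 33, 34, 35, 37, 39, 41, 42, 43, 45, 46, 47, 48, 49, 50, 51, 53, 55, 54, 50, 51, 34, 35, 18, 19, 11, 13, 14, 15, 16, 18, 19, 21, 22, 23, 25, 26, 27, 29, 30, 31, 32, 34, 35, 37, 38, 39, 41, 42, 43, 45, 46, 47, 48, 50, 51, 53, 52, 45, 46, 37, 29, 30, 21, 6, 8, 9, 10, 11, 13, 14, 16, 17, 18, 19, 21, 23, 24, 25, 26, 27, 29, 30, 32, 33, 34, 35, 37, 39, 40, 41, 42, 43, 45, 46, 48, 49, 50, 51, 45, 46, 47, 48, 44, 29, 30, 31, 32, 28, 13, 14, 15, 16, 12, 2, 3, 4, 5, 6, 7, 9, 10, 12, 14, 15, 16, 18, 19, 20, 21, 22, 24, 25, 26, 28, 30, 31, 32, 34, 35, 36, 37, 38, 40, 41, 42, 44, 46, 47, 48, 50, 49, 0, 2, 3, 4, 5, 7, 8, 10, 11, 12, 14, 15, 16, 18, 19, 20, 22, 23, 24, 26, 27, 28, 30, 31, 32, 34, 35, 36, 38, 39, 40, 42, 43,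 44, 46, 47, 48, 51, 50, 49, 48, 46, 47, 48, 45, 46, 47, 46, 44, 45, 42, 43, 44, 43, 42, 41, 40, 39, 38, 37, 36, 34, 35, 34, 33, 32, 30, 31, 29, 30, 28, 29, 26, 27, 28, 22, 23, 24, 25, 26, 27, 26, 25, 24, 21, 22, 23, 22, 20, 21, 19, 20, 19, 18, 17, 16, 15, 14, 13, 12, 11, 10, 9, 8, 7, 6, 5, 4, 3, 2, 1, 0] = true := by decide +kernel

/-- `wX` commutes with the transposition `wm` -/
theorem chk3 : chkW NFi23.net 15 (wX ++ wm ++ wX.reverse ++ wm) 1 0 15 = true := by decide +kernel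
/-- the cube of `c j m` -/
theorem chk4 : chkW NFi23.net 15 ((List.replicate 3 (wc ++ [.j] ++ wm)).flatten ++ wX.reverse) 1 0 15 = true := by
  decide +kernel

theorem chk5 : chkW NFi23.net 15 (wX ++ [.j] ++ wX.reverse ++ [.j]) 1 0 15 = true := by decide +kernel

end H40.Fi23M
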