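import Cfsg.Agent.Lib.H2.HN.Rho

set_option autoImplicit false
set_option maxRecDepth 100000
set_option linter.all false

/-! The hundred point action of `2.HS.2`: centralisers of an element of order 11 and of `U₃(5)`. -/

namespace H40.HNO

open H40.PermCode H35.Stem H2.HN
open H64.HSG (G φ XS eX E100)

/-- adjacency table, 100 bits per row -/
def ROW : ℕ := 0x4004080302004088a038a647020228e00000018b180810c6c020000000c71232805680060b000010840486a101821841b06002040408210120242a944f40800004480900aa85049c041286004000c90001810829781190001001808103082238198520900000809228110410f0c9540200000023c0228b80cb0c000c1080089001040c1000c16210af01020001180853018044425720005002021402040d0cd4142502080000020ac60529002ca4a401002102014a80047822d2010008105210011b1b0e1022200002020062804180db1c88024088000224000b2911114431018400084004003264002356601310010a008800448011a68445940a01000012a2a34c0410a3000400201080c85130d90201e00000250084040126ca819008a201200038040026d9838008c10d10000020240525445e4200804c01000104064060a1408909340484100088450240432863020003050402220004006d901ce06800302000641025060622451200c011010042e24c000e4210041808800182020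00031dd3a00d000440040241c10b320a0c0b4014002004204d04403a026004022001700401304c08970c808a8000840243b200300099882310000408620e451281480024109020020200524a0139884300001406008180458073606008840090480429a890120203105080804401411080322308d21080042010100a0a20c1280f9202806810006088302009e150a04008100004504330906583028020002018244d598148200400144c02040400ca06b88008510028068936906100805004081144685838501008048200420218160000004c084c082089e4146600000001107a106192410003414ec60312808020910000340a6903920050022800800c00a9186a00522a48000000800d0743c80006c04440002040c0680043101001419224448111a02c552b8420840000100291004707144082300044420818c0004440110432591000204161202008823c49838890000020034821000e663200840102846004402014d8168148000200844063e0018301838ac00040044510004048ab1941101020200414114901000c68e8a4048106000025495c100c070002040230008192588f4002110002042034008084a0c8c1c01040920108001a0104824000a021904626125044108d40916308200060008182c1e506040c14200000e04011024a300a4c00a0400b001408509ac321000948402430400002820c6d5c0110000020011421240e0a918140ab01200800120022018c8d8c08084800a1204800280030b931088801a8000902017212221223800004140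184407dc882101008441000022a01006f870900414002a200008a0082221423070302432048400008b082a130c84c181050000000838090704058a30040006082018182008002008bc0d0298088002760898da000a0800880500408040129d40c600a0904020180060946c8c11100103c400000d863026146001188040000848011282c8650800021880188813aa44424820068c0020020405804070339210800044482001e898150640068804201020080b9078c29400000c00004100b01e10083260410448390020001026002d029892401100046600c854901805c120700410010004438020686a304100320802000210714223e080044c08002046524501360841040c20042000d0280019c8191a20210004010b0b4227281000892508000000a16a304c02881015000010900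
/-- code of the element of order 11 -/
def CU : ℕ := 0xc07a607806023200154d6bf490a59edadbfc3129ce9752195a2f3157b04c4331f231b8b46df2b0635a479a445267230e2ebcc13ba466a13712657948d71da844b5541b2f4117a038b5558400ca402d8dd8ad431f924921d
/-- code of `x⁻¹ y x` -/
def CW : ℕ := 0x1a40996883094148041353b7e01a69191cbc5395047cb9e3b723f0d65136a47b940a55bcde4b114d92d3b2c2e9556f65488b3161f6618c52a280432870ac224c148d7b780e030f687002e667a912e85a75e6df9e5a85c63
/-- base points -/
def INF : ℕ := 75
/-- base points -/
def A0 : ℕ := 7
/-- base points -/
def W0 : ℕ := 9
/-- mask of the base points -/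
def MM : ℕ := 0xd120008202006028940d20e80
/-- paths -/
def PTH : List (Bool × List Bool) := [(false, [false, false, false, false, true, false, false, true]), (false, [true, true, true, false, false, true, false, false, true]), (true, [true, false, false, true, true]), (true, [false, true, false, false, true, true, true]), (false, [true, false, false, false, true, false, true, false, false, true]), (false, [true, true, true, false, false, false, true]), (true, [false, false, false, true, true, true]), (true, [true, true, true]), (true, [false, true, true, false, false, false, true]), (true, [false, false, true, false, false, true, true]), (false, [false, false, true, false, false, false, true]), (true, [true, false, false, true, false, false, true, true]), (false, [true, true, false, false, true]), (false, [false, true, false, false, false, false, true]), (false, [false, true, true, true, false, false, true, false, false, true]), (true, [true, true, false, false, false, true]), (false, [true, true, true, false, true, false, false, false, false, true]), (false, [false, true, false, true, true, true, false, false,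 true, false, false, true]), (false, [true, false, false, true, false, false, true]), (true, [true, true]), (true, [true, false, false, true, true, true]), (false, [true, false, false, false, true, false, false, true]), (false, [false, true, false, false, true]), (true, [false, false, false, true, false, true]), (true, [true, true, false, true, true, true]), (false, [true, false, true, true, true, false, false, true, false, false, true]), (false, [true, true, false, false, false, true]), (true, [true, false, false, false, true, true, true]), (false, [true, true, false, false, false, true, false, false, true]), (true, [false, true, true, true, false, true, true, true]), (false, [false, false, true, false, false, false, false, true]), (true, [false, false, true, false, true]), (false, [false, true, false, false, true, false, false, false, true]), (true, [true, true, false, false, true, true]), (false, [false, false, true, true, false, false, false, true]), (true, [false, false, true, true, false, true]), (true, [false, false, true]), (true, [true, false, true, true, true]), (true, [false, true, false, false, true,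 true]), (true, [false, false, false, true, false, false, false, true]), (true, [true, true, false, false, true, false, true]), (false, [true, true, true, false, false, true]), (false, [false, false, true, false, true, false, false, true]), (true, [true, true, true, true, true]), (false, [false, true, false, true, false, false, true]), (true, [false, false, false, false, true, true, true]), (true, [false, true, false, false, false, true]), (true, [true, true, true, true]), (false, [false, false, false, true, false, false, true]), (false, [false, true, false, false, false, true, false, false, true]), (false, [false, true, true, false, false, false, true]), (true, [false, true, true]), (false, [false, true, false, false, true, false, false, false, false, true]), (true, [false, true, true, true]), (false, [false, false, false, true, false, false, false, false, true]), (false, [false, true, false, false, false, true]), (false, [true, true, true, true, false, false, true, false, false, true]), (true, [false, true]), (false, [true, false, false, true, false, false, false, true]), (false, [false, false, true]), (true, [true,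 true, false, true]), (true, [false, false, true, true, true]), (true, [false, true, true, true, true]), (false, [false, false, false, false, true]), (true, [true, false, true, false, true]), (false, [false, false, false, true]), (false, [true, false, false, true, false, false, false, false, true]), (true, [true, false, false, true, false, true]), (false, []), (true, []), (true, [true, false, false, false, true]), (true, [true, true, false, true, false, true]), (false, [false, false, false, false, false, true]), (true, [true, false, true]), (true, [false, false, true, false, false, false, true]), (true, [false, true, true, false, true, false, true]), (false, [false, false, false, true, false, true, false, false, true]), (false, [true, true, false, false, true, false, false, false, false, true]), (true, [false, false, true, true, true, false, true, true, true]), (false, [true, false, true, false, false, false, false, true]), (true, [true, false, true, true, true, true]), (true, [false, true, true, false, true]), (true, [false, false, false, true]), (false, [true, false, true, false, false, true, false, false, false,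 false, true]), (false, [true, false, false, false, true]), (true, [false, true, false, true]), (false, [true]), (true, [true, true, true, false, true, true, true]), (true, [false, true, true, false, true, true, true]), (true, [false, false, true, true]), (false, [true, true, false, false, true, false, false, true]), (true, [true, false, false, false, true, false, true]), (false, [true, false, false, false, false, true]), (false, [false, false, true, false, false, true]), (false, [true, false, false, true]), (false, [false, true]), (false, [true, false, true, false, false, true]), (true, [true]), (false, [true, true, false, true, false, false, false, false, true]), (false, [false, false, false, false, false, true, false, false, true])]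

/-- word of order 11 -/
def w11 : W (Fin 3) := [(1, true), (2, true), (1, true), (1, true), (1, true), (2, true), (0, true)]
/-- `x⁻¹ y x` -/
def wv' : W (Fin 3) := [(0, false), (1, true), (0, true)]

/-! ### kernel checks -/

/-- bit of the adjacency matrix -/
noncomputable def bt (i j : ℕ) : ℕ := Nat.land (Nat.shiftRight ROW (Nat.add (Nat.mul 100 i) j)) 1
/-- existence below `n` -/
noncomputable def exN (f : ℕ → Bool) (n : ℕ) : Bool := !(allN (fun i => !(f i)) n)

theorem exN_iff (f : ℕ → Bool) (n : ℕ) : exN f n = true ↔ ∃ i < n, f i = true := by
  unfold exN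
  constructor
  · intro h
    by_contra hc
    push Not at hc
    have : allN (fun i => !(f i)) n = true := (allN_iff _ _).2 (fun i hi => by
      have := hc i hi
      simp only [Bool.not_eq_true] at this
      simp [this])
    rw [this] at h
    exact absurd h (by decide)
  · rintro ⟨i, hi, hf⟩
    cases h : allN (fun i => !(f i)) n with
    | false => rfl
    | true =>
      have := (allN_iff _ _).1 h i hi
      simp [hf] at this

/-- iterate the table of `u` -/
noncomputable def itU (k b : ℕ) : ℕ := Nat.rec (motive := fun _ => ℕ) b (fun _ ih => tab 7 CU ih) k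

theorem pres_x : allN (fun i => allN (fun j => Nat.beq (bt (tab 7 CX i) (tab 7 CX j)) (bt i j)) 100) 100 = true := by
  decide +kernel
theorem pres_y : allN (fun i => allN (fun j => Nat.beq (bt (tab 7 CY i) (tab 7 CY j)) (bt i j)) 100) 100 = true := by
  decide +kernel
theorem pres_z : allN (fun i => allN (fun j => Nat.beq (bt (tab 7 CZ i) (tab 7 CZ j)) (bt i j)) 100) 100 = true := by
  decide +kernel
theorem eqU : eqc 7 100 CU (evc 7 100 c3 i3 w11) = true := by decide +kernel
theorem eqW : eqc 7 100 CW (evc 7 100 c3 i3 wv') = true := by decide +kernel
theorem ck_fixU : allN (fun i => !(Nat.beq (tab 7 CU i) i) || Nat.beq i INF) 100 = true := by decide +kernel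
theorem ck_inf : Nat.beq (tab 7 CU INF) INF = true := by decide +kernel
theorem ck_A : allN (fun b => !(Nat.beq (bt INF b) 1) || exN (fun s => Nat.beq (itU s A0) b) 11 ||
    allN (fun v => exN (fun k => !(Nat.beq (bt v (itU k b)) (bt W0 (itU k A0)))) 11) 100) 100 = true := by decide +kernel
theorem ck_A0 : Nat.beq (bt INF A0) 1 = true := by decide +kernel
theorem ck_B : allN (fun v => Nat.beq v W0 || exN (fun k => !(Nat.beq (bt v (itU k A0)) (bt W0 (itU k A0)))) 11) 100 = true := by
  decide +kernel
theorem ck_M : allN (fun f => Nat.beq (Nat.land (Nat.shiftRight MM f) 1) 0 || Nat.beq f INF ||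
    exN (fun k => Nat.beq (itU k A0) f) 11 || exN (fun k => Nat.beq (itU k W0) f) 11) 100 = true := by decide +kernel
theorem ck_C : allN (fun i => allN (fun j => Nat.beq i j ||
    !(Nat.beq (Nat.land (tab 100 ROW i) MM) (Nat.land (tab 100 ROW j) MM))) 100) 100 = true := by decide +kernel

/-- run along a path -/
def runp (l : List Bool) (i : ℕ) : ℕ := l.foldr (fun b q => tab 7 (bif b then CW else CY) q) i
/-- start of a path -/
def stp (b : Bool) : ℕ := bif b then 69 else 68
theorem ck_P : allN (fun i => Nat.beq (runp (PTH.getD i (false, [])).2 (stp (PTH.getD i (false, [])).1)) i) 100 = true := by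
  decide +kernel
theorem ck_Y : allN (fun i => !(Nat.beq (tab 7 CY i) i) || Nat.beq i 68 || Nat.beq i 69) 100 = true := by decide +kernel
theorem ck_Y2 : (Nat.beq (tab 7 CY 68) 68 && Nat.beq (tab 7 CY 69) 69) = true := by decide +kernel
theorem ck_V : (Nat.beq (tab 7 CW (tab 7 CY (tab 7 CW 68))) 68 && !(Nat.beq (tab 7 CW (tab 7 CY (tab 7 CW 69))) 69)) = true := by
  decide +kernel

theorem beq_iff {a b : ℕ} : Nat.beq a b = true ↔ a = b := ⟨Nat.eq_of_beq_eq_true, fun h => by rw [h]; exact Nat.beq_refl _⟩
theorem not_beq_iff {a b : ℕ} : (!(Nat.beq a b)) = true ↔ a ≠ b := by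
  rw [Bool.not_eq_true', ← Bool.not_eq_true, beq_iff]

/-! ### representations -/

theorem ψ_pg (w : W (Fin 3)) : ψ (ev pg w) = ev p3 w := by
  rw [ev_hom ψ pg]
  congr 1
  funext i
  fin_cases i
  · exact ψ_x
  · exact ψ_y
  · exact ψ_z

theorem rep_w3 (w : W (Fin 3)) : Rep E100 7 (ψ (ev pg w)) (evc 7 100 c3 i3 w) := by
  rw [ψ_pg]; exact rep_evc (by norm_num) rep3 rep3i w

/-- the element of order eleven -/
noncomputable def u11 : P := ev pg w11

theorem rep_u : Rep E100 7 (ψ u11) CU := by
  intro p
  rw [u11, rep_w3 w11 p]
  exact (eqc_iff.1 eqU _ (E100.idx_lt p)).symm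

theorem ev_wv : ev pg wv' = px⁻¹ * py * px := by
  simp [wv', ev, el, pg, mul_assoc]

theorem rep_v : Rep E100 7 (ψ (px⁻¹ * py * px)) CW := by
  intro p
  rw [← ev_wv, rep_w3 wv' p]
  exact (eqc_iff.1 eqW _ (E100.idx_lt p)).symm

theorem rep_px : Rep E100 7 (ψ px) CX := by rw [ψ_x]; exact rep_gx
theorem rep_py : Rep E100 7 (ψ py) CY := by rw [ψ_y]; exact rep_gy
theorem rep_pz : Rep E100 7 (ψ pz) CZ := by rw [ψ_z]; exact rep_sz

theorem pres (h : P) : ∀ p q : XS, bt (E100.idx (ψ h p)) (E100.idx (ψ h q)) = bt (E100.idx p) (E100.idx q) := by
  have hm : h ∈ Subgroup.closure ({px, py, pz} : Set P) := by rw [closureP]; trivial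
  induction hm using Subgroup.closure_induction with
  | mem a ha =>
    intro p q
    rcases ha with rfl | rfl | rfl
    · rw [rep_px, rep_px]
      exact beq_iff.1 ((allN_iff _ _).1 ((allN_iff _ _).1 pres_x _ (E100.idx_lt p)) _ (E100.idx_lt q))
    · rw [rep_py, rep_py]
      exact beq_iff.1 ((allN_iff _ _).1 ((allN_iff _ _).1 pres_y _ (E100.idx_lt p)) _ (E100.idx_lt q))
    · rw [rep_pz, rep_pz]
      exact beq_iff.1 ((allN_iff _ _).1 ((allN_iff _ _).1 pres_z _ (E100.idx_lt p)) _ (E100.idx_lt q))
  | one => intro p q; rw [map_one]; rfl
  | mul a b _ _ iha ihb => intro p q; rw [map_mul, Equiv.Perm.mul_apply, Equiv.Perm.mul_apply, iha, ihb]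
  | inv a _ iha =>
    intro p q
    have h1 := iha ((ψ a)⁻¹ p) ((ψ a)⁻¹ q)
    have e : ∀ q, ψ a ((ψ a)⁻¹ q) = q := fun q => (ψ a).apply_symm_apply q
    rw [e, e] at h1
    rw [map_inv]
    exact h1.symm

theorem idx_pow (k : ℕ) (p : XS) : E100.idx ((ψ u11 ^ k) p) = itU k (E100.idx p) := by
  induction k with
  | zero => rfl
  | succ k ih => rw [pow_succ', Equiv.Perm.mul_apply, rep_u, ih]; rfl

/-- points -/
noncomputable def pI : XS := E100.pt INF
/-- points -/
noncomputable def pA : XS := E100.pt A0
/-- points -/
noncomputable def pW : XS := E100.pt W0
theorem idx_I : E100.idx pI = INF := E100.idx_pt _ (by decide)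
theorem idx_A : E100.idx pA = A0 := E100.idx_pt _ (by decide)
theorem idx_W : E100.idx pW = W0 := E100.idx_pt _ (by decide)

theorem bt_eq (i j : ℕ) : bt i j = (ROW.testBit (100 * i + j)).toNat := by
  show (ROW >>> (100 * i + j)) &&& 1 = _
  rw [Nat.and_one_is_mod, Nat.shiftRight_eq_div_pow, Nat.toNat_testBit]

theorem row_bit (i : ℕ) {f : ℕ} (hf : f < 100) : ((tab 100 ROW i).testBit f).toNat = bt i f := by
  rw [bt_eq, tab, Nat.testBit_mod_two_pow, Nat.testBit_shiftRight]
  simp [hf]

theorem row_hi (i : ℕ) {f : ℕ} (hf : 100 ≤ f) : (tab 100 ROW i).testBit f = false := by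
  rw [tab, Nat.testBit_mod_two_pow]
  simp [Nat.not_lt.2 hf]

theorem toNat_inj' {a b : Bool} (h : a.toNat = b.toNat) : a = b := by
  cases a <;> cases b <;> first | rfl | (exact absurd h (by decide))

section cent

variable {h : P} (hc : h * u11 = u11 * h)

include hc in
theorem comm_pow (k : ℕ) (p : XS) : ψ h ((ψ u11 ^ k) p) = (ψ u11 ^ k) (ψ h p) := by
  have h1 : h * u11 ^ k = u11 ^ k * h := ((show Commute h u11 from hc).pow_right k).eq
  have h2 := congrArg (fun a => ψ a p) h1
  simpa only [map_mul, map_pow, Equiv.Perm.mul_apply] using h2

include hc in
theorem fixI : ψ h pI = pI := by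
  have h1 : ψ u11 pI = pI := by
    apply E100.idx_injective
    rw [rep_u, idx_I]
    exact beq_iff.1 ck_inf
  have h2 : ψ u11 (ψ h pI) = ψ h pI := by
    have := comm_pow hc 1 pI
    rw [pow_one, h1] at this
    exact this.symm
  apply E100.idx_injective
  rw [idx_I]
  have h3 := (allN_iff _ _).1 ck_fixU _ (E100.idx_lt (ψ h pI))
  rw [← rep_u, h2, Bool.or_eq_true, not_beq_iff, beq_iff] at h3
  rcases h3 with h3 | h3
  · exact absurd rfl h3
  · exact h3

include hc in
theorem fix_all (hA : ψ h pA = pA) : ψ h = 1 := by
  have hI := fixI hc
  have hAk : ∀ k, ψ h ((ψ u11 ^ k) pA) = (ψ u11 ^ k) pA := fun k => by rw [comm_pow hc, hA]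
  have hW : ψ h pW = pW := by
    apply E100.idx_injective
    rw [idx_W]
    have h3 := (allN_iff _ _).1 ck_B _ (E100.idx_lt (ψ h pW))
    rw [Bool.or_eq_true, beq_iff, exN_iff] at h3
    rcases h3 with h3 | ⟨k, hk, h3⟩
    · exact h3
    · exfalso
      rw [not_beq_iff] at h3
      apply h3
      have h4 := pres h pW ((ψ u11 ^ k) pA)
      rw [hAk, idx_pow, idx_A, idx_W] at h4
      exact h4
  have hWk : ∀ k, ψ h ((ψ u11 ^ k) pW) = (ψ u11 ^ k) pW := fun k => by rw [comm_pow hc, hW]
  have hM : ∀ f, f < 100 → MM.testBit f = true → ψ h (E100.pt f) = E100.pt f := by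
    intro f hf hb
    have h3 := (allN_iff _ _).1 ck_M f hf
    rw [Bool.or_eq_true, Bool.or_eq_true, Bool.or_eq_true, beq_iff, beq_iff, exN_iff, exN_iff] at h3
    rcases h3 with ((h3 | h3) | ⟨k, hk, h3⟩) | ⟨k, hk, h3⟩
    · exfalso
      have h4 : (MM >>> f) &&& 1 = 0 := h3
      rw [Nat.and_one_is_mod, Nat.shiftRight_eq_div_pow, ← Nat.toNat_testBit, hb] at h4
      exact absurd h4 (by decide)
    · subst h3; exact hI
    · have e : E100.pt f = (ψ u11 ^ k) pA := by
        apply E100.idx_injective
        rw [E100.idx_pt _ hf, idx_pow, idx_A]
        exact (beq_iff.1 h3).symm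
      rw [e]; exact hAk k
    · have e : E100.pt f = (ψ u11 ^ k) pW := by
        apply E100.idx_injective
        rw [E100.idx_pt _ hf, idx_pow, idx_W]
        exact (beq_iff.1 h3).symm
      rw [e]; exact hWk k
  ext1 p
  apply E100.idx_injective
  show E100.idx (ψ h p) = E100.idx p
  have key : (tab 100 ROW (E100.idx (ψ h p))) &&& MM = (tab 100 ROW (E100.idx p)) &&& MM := by
    apply Nat.eq_of_testBit_eq
    intro f
    rw [Nat.testBit_and, Nat.testBit_and]
    rcases Nat.lt_or_ge f 100 with hf | hf
    · cases hb : MM.testBit f with
      | false => simp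
      | true =>
        have h4 := pres h p (E100.pt f)
        rw [hM f hf hb, E100.idx_pt _ hf, ← row_bit _ hf, ← row_bit _ hf] at h4
        rw [toNat_inj' h4]
    · rw [row_hi _ hf, row_hi _ hf]
  have h5 := (allN_iff _ _).1 ((allN_iff _ _).1 ck_C _ (E100.idx_lt (ψ h p))) _ (E100.idx_lt p)
  rw [Bool.or_eq_true, beq_iff, not_beq_iff] at h5
  rcases h5 with h5 | h5
  · exact h5
  · exact absurd key h5

include hc in
theorem cent_pow : ∃ s : ℕ, ψ h = ψ u11 ^ s := by
  have hI := fixI hc
  have h3 := (allN_iff _ _).1 ck_A _ (E100.idx_lt (ψ h pA))
  rw [Bool.or_eq_true, Bool.or_eq_true, not_beq_iff, exN_iff, allN_iff] at h3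
  rcases h3 with (h3 | ⟨s, hs, h3⟩) | h3
  · exfalso
    apply h3
    have h4 := pres h pI pA
    rw [hI, idx_I, idx_A] at h4
    rw [h4]
    exact beq_iff.1 ck_A0
  · have e : ψ h pA = (ψ u11 ^ s) pA := by
      apply E100.idx_injective
      rw [idx_pow, idx_A]
      exact (beq_iff.1 h3).symm
    have hc' : ((u11 ^ s)⁻¹ * h) * u11 = u11 * ((u11 ^ s)⁻¹ * h) := by
      have c1 : Commute ((u11 ^ s)⁻¹ * h) u11 :=
        (((Commute.refl u11).pow_left s).inv_left).mul_left hc
      exact c1.eq
    have h5 := fix_all hc' (by
      rw [map_mul, map_inv, map_pow, Equiv.Perm.mul_apply, e]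
      exact (ψ u11 ^ s).symm_apply_apply pA)
    refine ⟨s, ?_⟩
    rw [map_mul, map_inv, map_pow, inv_mul_eq_one] at h5
    exact h5.symm
  · exfalso
    have h4 := h3 _ (E100.idx_lt (ψ h pW))
    rw [exN_iff] at h4
    obtain ⟨k, hk, h4⟩ := h4
    rw [not_beq_iff] at h4
    apply h4
    have h5 := pres h pW ((ψ u11 ^ k) pA)
    rw [comm_pow hc, idx_pow, idx_pow, idx_W, idx_A] at h5
    exact h5

end cent

/-! ### the kernel -/

theorem px2_ne : px ^ 2 ≠ (1 : P) := by
  intro h
  apply ρ_x2
  rw [h, map_one]

theorem ψ_px2 : ψ (px ^ 2) = 1 := f_eq_one.1 f_uK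

theorem ker_ψ {h : P} (hh : ψ h = 1) : h = 1 ∨ h = px ^ 2 := by
  have h1 : Nat.card ψ.ker * Nat.card ψ.range = 177408000 := by
    rw [← Subgroup.index_ker, Subgroup.card_mul_index, card_P_eq]
  have h2 : 88704000 ≤ Nat.card ψ.range := card_range_ψ
  have h3 : Nat.card ψ.ker ≤ 2 := by
    by_contra hc
    push Not at hc
    have : 3 * 88704000 ≤ Nat.card ψ.ker * Nat.card ψ.range := Nat.mul_le_mul hc h2
    omega
  by_contra hc
  push Not at hc
  have h4 : 2 < Nat.card ψ.ker := by
    let s : Fin 3 → ψ.ker := ![1, ⟨px ^ 2, ψ_px2⟩, ⟨h, hh⟩]
    have hs : Function.Injective s := by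
      intro i j hij
      have hij' := congrArg Subtype.val hij
      fin_cases i <;> fin_cases j <;> first
        | rfl
        | (exfalso; exact px2_ne hij'.symm)
        | (exfalso; exact px2_ne hij')
        | (exfalso; exact hc.1 hij'.symm)
        | (exfalso; exact hc.1 hij')
        | (exfalso; exact hc.2 hij'.symm)
        | (exfalso; exact hc.2 hij')
    have := Nat.card_le_card_of_injective s hs
    rw [Nat.card_fin] at this
    omega
  omega

theorem u11_pow : u11 ^ 11 = 1 := by
  have h := word_trivial relP (w := w11 ++ (w11 ++ (w11 ++ (w11 ++ (w11 ++ (w11 ++ (w11 ++ (w11 ++ (w11 ++ (w11 ++ w11))))))))))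
    (by decide +kernel)
  have e : ∀ a b : W (Fin 3), ev ![px, py, pz] (a ++ b) = ev ![px, py, pz] a * ev ![px, py, pz] b := by
    intro a b
    unfold ev
    rw [List.map_append, List.prod_append]
  simp only [e] at h
  have e2 : ev ![px, py, pz] w11 = u11 := rfl
  rw [e2] at h
  simpa only [pow_succ', pow_zero, mul_one] using h

/-- the only non-trivial element of order two in the centraliser of the element of order eleven is `x²` -/
theorem cent_u {h : P} (hc : h * u11 = u11 * h) (h2 : h * h = 1) : h = 1 ∨ h = px ^ 2 := by
  obtain ⟨s, hs⟩ := cent_pow hc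
  have h1 : ψ ((u11 ^ s)⁻¹ * h) = 1 := by
    rw [map_mul, map_inv, map_pow, hs, inv_mul_cancel]
  have hcen : ∀ a : P, a * px ^ 2 = px ^ 2 * a := u_central
  have hx4 : px ^ 2 * px ^ 2 = (1 : P) := relP.u2
  have key : u11 ^ s * u11 ^ s = 1 → u11 ^ s = 1 := by
    intro hk
    have e1 : (u11 ^ s) ^ 11 = 1 := by rw [← pow_mul, mul_comm, pow_mul, u11_pow, one_pow]
    have e2 : (u11 ^ s) ^ 12 = 1 := by
      have : (u11 ^ s) ^ 12 = (u11 ^ s * u11 ^ s) ^ 6 := by rw [← pow_two (u11 ^ s), ← pow_mul (u11 ^ s) 2 6]
      rw [this, hk, one_pow]
    rw [pow_succ, e1, one_mul] at e2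
    exact e2
  rcases ker_ψ h1 with h3 | h3
  · have h4 : h = u11 ^ s := (inv_mul_eq_one.1 h3).symm
    left
    rw [h4]
    apply key
    rw [← h4]
    exact h2
  · have h4 : h = u11 ^ s * px ^ 2 := by rw [← h3]; group
    right
    have h5 : u11 ^ s * u11 ^ s = 1 := by
      have : h * h = u11 ^ s * u11 ^ s := by
        rw [h4]
        calc u11 ^ s * px ^ 2 * (u11 ^ s * px ^ 2) = u11 ^ s * (px ^ 2 * u11 ^ s) * px ^ 2 := by simp only [mul_assoc]
          _ = u11 ^ s * (u11 ^ s * px ^ 2) * px ^ 2 := by rw [← hcen (u11 ^ s)]
          _ = u11 ^ s * u11 ^ s * (px ^ 2 * px ^ 2) := by simp only [mul_assoc]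
          _ = _ := by rw [hx4, mul_one]
      rw [← this, h2]
    rw [h4, key h5, one_mul]

/-! ### the centraliser of `⟨y, y ^ x⟩` -/

theorem cent_U {h : P} (h1 : h * py = py * h) (h2 : h * (px⁻¹ * py * px) = (px⁻¹ * py * px) * h) :
    h = 1 ∨ h = px ^ 2 := by
  apply ker_ψ
  have c1 : ∀ p : XS, ψ h (ψ py p) = ψ py (ψ h p) := by
    intro p
    have := congrArg (fun a => ψ a p) h1
    simpa only [map_mul, Equiv.Perm.mul_apply] using this
  have c2 : ∀ p : XS, ψ h (ψ (px⁻¹ * py * px) p) = ψ (px⁻¹ * py * px) (ψ h p) := by
    intro p
    have := congrArg (fun a => ψ a p) h2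
    rw [map_mul, Equiv.Perm.mul_apply] at this
    rw [this, map_mul, Equiv.Perm.mul_apply]
  have i68 : E100.idx (E100.pt 68) = 68 := E100.idx_pt _ (by decide)
  have i69 : E100.idx (E100.pt 69) = 69 := E100.idx_pt _ (by decide)
  obtain ⟨y68, y69⟩ := Bool.and_eq_true_iff.1 ck_Y2
  obtain ⟨v68, v69⟩ := Bool.and_eq_true_iff.1 ck_V
  rw [beq_iff] at y68 y69 v68
  rw [not_beq_iff] at v69
  have f68 : ψ py (E100.pt 68) = E100.pt 68 := E100.idx_injective (by rw [rep_py, i68, y68])
  have f69 : ψ py (E100.pt 69) = E100.pt 69 := E100.idx_injective (by rw [rep_py, i69, y69])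
  have two : ∀ q : XS, ψ py q = q → E100.idx q = 68 ∨ E100.idx q = 69 := by
    intro q hq
    have h3 := (allN_iff _ _).1 ck_Y _ (E100.idx_lt q)
    rw [← rep_py, hq, Bool.or_eq_true, Bool.or_eq_true, not_beq_iff, beq_iff, beq_iff] at h3
    rcases h3 with (h3 | h3) | h3
    · exact absurd rfl h3
    · exact Or.inl h3
    · exact Or.inr h3
  have g68 : ψ py (ψ h (E100.pt 68)) = ψ h (E100.pt 68) := by rw [← c1, f68]
  have g69 : ψ py (ψ h (E100.pt 69)) = ψ h (E100.pt 69) := by rw [← c1, f69]
  have hv : ψ (px⁻¹ * py * px) (ψ py (ψ (px⁻¹ * py * px) (ψ h (E100.pt 68)))) = ψ h (E100.pt 68) := by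
    rw [← c2, ← c1, ← c2]
    congr 1
    apply E100.idx_injective
    rw [rep_v, rep_py, rep_v, i68, v68]
  have e68 : ψ h (E100.pt 68) = E100.pt 68 := by
    apply E100.idx_injective
    rw [i68]
    rcases two _ g68 with h3 | h3
    · exact h3
    · exfalso
      apply v69
      have := congrArg E100.idx hv
      rw [rep_v, rep_py, rep_v, h3] at this
      exact this
  have e69 : ψ h (E100.pt 69) = E100.pt 69 := by
    apply E100.idx_injective
    rw [i69]
    rcases two _ g69 with h3 | h3
    · exfalso
      have h4 : ψ h (E100.pt 69) = E100.pt 68 := E100.idx_injective (by rw [h3, i68])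
      have h5 : E100.pt 69 = E100.pt 68 := (ψ h).injective (by rw [h4, e68])
      have h6 := congrArg E100.idx h5
      rw [i68, i69] at h6
      exact absurd h6 (by decide)
    · exact h3
  have run : ∀ (l : List Bool) (q : XS), ψ h q = q → ∃ r : XS, ψ h r = r ∧ E100.idx r = runp l (E100.idx q) := by
    intro l
    induction l with
    | nil => intro q hq; exact ⟨q, hq, rfl⟩
    | cons b l ih =>
      intro q hq
      obtain ⟨r, hr, hi⟩ := ih q hq
      cases b with
      | true =>
        refine ⟨ψ (px⁻¹ * py * px) r, by rw [c2, hr], ?_⟩
        rw [rep_v, hi]; rfl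
      | false =>
        refine ⟨ψ py r, by rw [c1, hr], ?_⟩
        rw [rep_py, hi]; rfl
  ext1 p
  have h3 := (allN_iff _ _).1 ck_P _ (E100.idx_lt p)
  rw [beq_iff] at h3
  set pt := PTH.getD (E100.idx p) (false, []) with hpt
  rcases pt with ⟨b, l⟩
  cases b with
  | true =>
    obtain ⟨r, hr, hi⟩ := run l _ e69
    have : r = p := E100.idx_injective (by rw [hi, i69]; exact h3)
    rw [← this]; exact hr
  | false =>
    obtain ⟨r, hr, hi⟩ := run l _ e68
    have : r = p := E100.idx_injective (by rw [hi, i68]; exact h3)
    rw [← this]; exact hr

end H40.HNO
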