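import Cfsg.Agent.Lib.H10.NHN.Net
set_option autoImplicit false
set_option maxRecDepth 100000
set_option linter.all false
set_option Elab.async false
/-! Fixed points on the 1539000 points of the Harada–Norton group. -/
namespace H40.HNO
open H35.TC H35.Net H10.NHN
open H10.HNAlt (Lt)

/-- mask of the moved points -/
noncomputable def movM (f : ℕ → ℕ) (k m : ℕ) : ℕ :=
  Nat.rec (motive := fun _ => ℕ) 0 (fun r ih => force (ipl r k) (fun W => Nat.lor ih (Nat.xor (f W) W))) m

theorem movM_succ (f : ℕ → ℕ) (k m : ℕ) : movM f k (m + 1) = movM f k m ||| (f (ipl m k) ^^^ ipl m k) := by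
  show force (ipl m k) (fun W => Nat.lor (movM f k m) (Nat.xor (f W) W)) = _
  rw [force_eq]
  rfl

theorem movM_spec {f : ℕ → ℕ} {k : ℕ} {π : Equiv.Perm ℕ} (hf : BP (2 ^ k) f π) {b : ℕ} (h : π b = b) :
    ∀ m, (movM f k m).testBit b = false := by
  intro m
  induction m with
  | zero => exact Nat.zero_testBit b
  | succ m ih =>
    rw [movM_succ, Nat.testBit_or, Nat.testBit_xor, ih, hf.bit, h]
    simp

theorem rng_bit {N j b : ℕ} (hj : j ≤ N) (h1 : j ≤ b) (h2 : b < N) : (2 ^ N - 2 ^ j).testBit b = true := by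
  have e : 2 ^ N - 2 ^ j = (2 ^ (N - j) - 1) <<< j := by
    rw [Nat.shiftLeft_eq, Nat.sub_mul, one_mul, ← pow_add, Nat.sub_add_cancel hj]
  rw [e, Nat.testBit_shiftLeft, Nat.testBit_two_pow_sub_one]
  have : b - j < N - j := by omega
  simp [h1, this]

theorem appF_BP (w : List Lt) : BP (2 ^ 21) (appF net w) ((w.map π).prod) := by
  have e : appF net w = app net w := by
    funext W
    exact appF_eq net w W
  rw [e]
  exact app_BP hbp w

/-- kernel check: outside the first `j` points below `N` everything in `M` is set -/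
noncomputable def chkM (M N j : ℕ) : Bool :=
  Nat.beq (Nat.land M (Nat.sub (Nat.pow 2 N) 1)) (Nat.sub (Nat.pow 2 N) (Nat.pow 2 j))

theorem chkM_spec {M N j : ℕ} (h : chkM M N j = true) (hj : j ≤ N) {b : ℕ} (h2 : b < N) (hM : M.testBit b = false) :
    b < j := by
  by_contra hc
  have h' : M &&& (2 ^ N - 1) = 2 ^ N - 2 ^ j := eqOfBeq h
  have h3 := congrArg (fun z => z.testBit b) h'
  simp only [Nat.testBit_and, hM, Bool.false_and] at h3
  rw [rng_bit hj (by omega) h2] at h3
  exact absurd h3 (by simp)

theorem lor_false {a b c : ℕ} (h1 : a.testBit c = false) (h2 : b.testBit c = false) : (Nat.lor a b).testBit c = false := by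
  have h5 : (a ||| b).testBit c = false := by
    rw [Nat.testBit_or, h1, h2]; rfl
  exact h5

/-- the word of order eleven -/
def wu : List Lt := [.y, .z, .y, .y, .y, .z, .x]

theorem chk_u : chkM (movM (appF net wu) 21 21) 1539000 1 = true := by decide +kernel

theorem chk_U : chkM (Nat.lor (movM (appF net [.y]) 21 21) (movM (appF net [.X, .y, .x]) 21 21)) 1539000 5 = true := by
  decide +kernel

/-- the element of order eleven has a single fixed point -/
theorem fix_u {b : ℕ} (hb : b < 1539000) (h : ((wu.map π).prod) b = b) : b = 0 := by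
  have h1 := movM_spec (appF_BP wu) h 21
  exact Nat.lt_one_iff.1 (chkM_spec chk_u (by norm_num) hb h1)

/-- `y`, `y ^ x` have five common fixed points -/
theorem fix_U {b : ℕ} (hb : b < 1539000) (h1 : π .y b = b) (h2 : (π .X * (π .y * π .x)) b = b) : b < 5 := by
  have e1 : ((([.y] : List Lt).map π).prod) = π .y := by simp
  have e2 : ((([.X, .y, .x] : List Lt).map π).prod) = π .X * (π .y * π .x) := by simp
  have h3 := movM_spec (appF_BP [.y]) (by rw [e1]; exact h1) 21
  have h4 := movM_spec (appF_BP [.X, .y, .x]) (by rw [e2]; exact h2) 21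
  exact chkM_spec chk_U (by norm_num) hb (lor_false h3 h4)

end H40.HNO
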