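import Cfsg.Agent.Lib.H40.HNO1
import Cfsg.Agent.Lib.H9.HSOut2

set_option autoImplicit false
set_option linter.all false

/-! Automorphisms of `2.HS.2`. -/

namespace H40.HNO

open H2.HN
open H64.HSG (G φ XS eX E100)

theorem perf_triv {K A : Type} [Group K] [Group A] (hK : _root_.commutator K = ⊤) (hA : ∀ a b : A, a * b = b * a)
    (f : K →* A) (k : K) : f k = 1 := by
  have h : _root_.commutator K ≤ f.ker := by
    rw [commutator_def, Subgroup.commutator_le]
    intro a _ b _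
    rw [MonoidHom.mem_ker, map_commutatorElement, commutatorElement_def, hA (f a) (f b)]
    group
  have h2 : k ∈ _root_.commutator K := by rw [hK]; trivial
  exact h h2

theorem map_K' (α : P ≃* P) {k : P} (hk : k ∈ K) : α k ∈ K := by
  haveI := normal_K relP closureP
  have hc : Nat.card (P ⧸ K) = 2 := index_K
  have hA : ∀ a b : P ⧸ K, a * b = b * a := comm_of_card_le_three (by rw [hc]; norm_num) (by rw [hc]; norm_num)
  have h1 := perf_triv perfK hA ((QuotientGroup.mk' K).comp (α.toMonoidHom.comp K.subtype)) ⟨k, hk⟩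
  exact (QuotientGroup.eq_one_iff _).1 h1

theorem central_of {m : P} (hm : ∀ k ∈ K, m * k = k * m) : m = 1 ∨ m = px ^ 2 := by
  apply ker_ψ
  apply cent_trivial
  intro a
  obtain ⟨k, rfl⟩ := f_surj a
  rw [φ_f, ← map_mul, ← map_mul, hm k k.2]

theorem α_px2 (α : P ≃* P) : α (px ^ 2) = px ^ 2 := by
  have h1 : ∀ k ∈ K, α (px ^ 2) * k = k * α (px ^ 2) := by
    intro k _
    obtain ⟨j, rfl⟩ := α.surjective k
    rw [← map_mul, ← map_mul, u_central]
  rcases central_of h1 with h | h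
  · exfalso
    exact px2_ne (α.injective (by rw [h, map_one]))
  · exact h

theorem ψα (α : P ≃* P) {k : P} (h : ψ k = 1) : ψ (α k) = 1 := by
  rcases ker_ψ h with rfl | rfl
  · rw [map_one, map_one]
  · rw [α_px2]; exact ψ_px2

/-- restriction to `K` -/
noncomputable def Ak (α : P ≃* P) : K →* K :=
  (α.toMonoidHom.comp K.subtype).codRestrict K (fun k => map_K' α k.2)

theorem Ak_val (α : P ≃* P) (k : K) : ((Ak α k : K) : P) = α k := rfl

theorem ker_le (α : P ≃* P) : f.ker ≤ (f.comp (Ak α)).ker := by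
  intro k hk
  rw [MonoidHom.mem_ker, MonoidHom.comp_apply, f_eq_one]
  exact ψα α (f_eq_one.1 hk)

/-- the induced map on `HS` -/
noncomputable def bar (α : P ≃* P) : G →* G := f.liftOfSurjective f_surj ⟨f.comp (Ak α), ker_le α⟩

theorem bar_f (α : P ≃* P) (k : K) : bar α (f k) = f (Ak α k) :=
  MonoidHom.liftOfRightInverse_comp_apply f _ _ ⟨f.comp (Ak α), ker_le α⟩ k

theorem bar_surj (α : P ≃* P) : Function.Surjective (bar α) := by
  intro a
  obtain ⟨k, rfl⟩ := f_surj a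
  refine ⟨f ⟨α.symm k, map_K' α.symm k.2⟩, ?_⟩
  rw [bar_f]
  congr 1
  exact Subtype.ext (α.apply_symm_apply k)

/-- the induced automorphism of `HS` -/
noncomputable def barE (α : P ≃* P) : MulAut G :=
  MulEquiv.ofBijective (bar α) ⟨Finite.injective_iff_surjective.2 (bar_surj α), bar_surj α⟩

theorem barE_f (α : P ≃* P) (k : K) : barE α (f k) = f (Ak α k) := bar_f α k

theorem conj_f {α : P ≃* P} {k0 : K} (h : MulAut.conj (f k0) = barE α) (k : K) :
    ψ (α k) = ψ ((k0 : P) * k * (k0 : P)⁻¹) := by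
  have h1 : f k0 * f k * (f k0)⁻¹ = f (Ak α k) := by
    rw [← barE_f, ← h]; rfl
  have h2 := congrArg φ h1
  simp only [map_mul, map_inv, φ_f] at h2
  rw [map_mul, map_mul, map_inv, h2]
  rfl

theorem z_not_inn : barE (MulAut.conj pz) ∉ Cfsg.Inn G := by
  rintro ⟨g0, hg⟩
  obtain ⟨k0, rfl⟩ := f_surj g0
  have hψ : ψ ((k0 : P)⁻¹ * pz) = 1 := by
    apply cent_trivial
    intro a
    obtain ⟨k, rfl⟩ := f_surj a
    have h3 := conj_f hg k
    have h4 : (MulAut.conj pz : MulAut P) (k : P) = pz * k * pz⁻¹ := rfl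
    rw [h4, map_mul, map_mul, map_inv, map_mul, map_mul, map_inv] at h3
    rw [map_mul, map_inv, φ_f]
    calc (ψ k0)⁻¹ * ψ pz * ψ k = (ψ k0)⁻¹ * (ψ pz * ψ k * (ψ pz)⁻¹) * ψ pz := by group
      _ = (ψ k0)⁻¹ * (ψ k0 * ψ k * (ψ k0)⁻¹) * ψ pz := by rw [h3]
      _ = ψ k * ((ψ k0)⁻¹ * ψ pz) := by group
  apply sz_not
  rw [map_mul, map_inv, inv_mul_eq_one] at hψ
  rw [← ψ_z, ← hψ, ← φ_f]
  exact ⟨_, rfl⟩

theorem exists_m (α : P ≃* P) : ∃ m : P, ∀ k ∈ K, ψ (α k) = ψ (m * k * m⁻¹) := by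
  have hidx : (Cfsg.Inn G).index = 2 := H9.HSOut.out_G
  by_cases hα : barE α ∈ Cfsg.Inn G
  · obtain ⟨g0, hg⟩ := hα
    obtain ⟨k0, rfl⟩ := f_surj g0
    exact ⟨k0, fun k hk => conj_f hg ⟨k, hk⟩⟩
  · have h2 : (barE (MulAut.conj pz))⁻¹ * barE α ∈ Cfsg.Inn G := by
      rw [Subgroup.mul_mem_iff_of_index_two hidx]
      have h3 : (barE (MulAut.conj pz))⁻¹ ∉ Cfsg.Inn G := fun h => z_not_inn ((Subgroup.inv_mem_iff _).1 h)
      exact ⟨fun h => absurd h h3, fun h => absurd h hα⟩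
    obtain ⟨g0, hg⟩ := h2
    obtain ⟨k0, rfl⟩ := f_surj g0
    refine ⟨pz * k0, fun k hk => ?_⟩
    have h3 : barE α = barE (MulAut.conj pz) * MulAut.conj (f k0) := by
      rw [hg, mul_inv_cancel_left]
    have h4 := congrArg (fun (β : MulAut G) => φ (β (f ⟨k, hk⟩))) h3
    have h5 : φ (barE α (f ⟨k, hk⟩)) = ψ (α k) := by rw [barE_f, φ_f]; rfl
    have h6 : φ ((barE (MulAut.conj pz) * MulAut.conj (f k0)) (f ⟨k, hk⟩)) = ψ (pz * k0 * k * (pz * k0)⁻¹) := by
      have h7 : (barE (MulAut.conj pz) * MulAut.conj (f k0)) (f ⟨k, hk⟩) =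
          barE (MulAut.conj pz) (f (k0 * ⟨k, hk⟩ * k0⁻¹)) := by
        have e : f (k0 * ⟨k, hk⟩ * k0⁻¹) = f k0 * f ⟨k, hk⟩ * (f k0)⁻¹ := by rw [map_mul, map_mul, map_inv]
        rw [e]; rfl
      rw [h7, barE_f, φ_f]
      congr 1
      show pz * ((k0 : P) * k * (k0 : P)⁻¹) * pz⁻¹ = _
      group
    rw [← h5, ← h6]
    exact h4

/-- every automorphism of `2.HS.2` is inner up to `z ↦ z x²` -/
theorem aut_P (α : P ≃* P) : ∃ m : P, α px = m * px * m⁻¹ ∧ α py = m * py * m⁻¹ ∧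
    (α pz = m * pz * m⁻¹ ∨ α pz = m * (pz * px ^ 2) * m⁻¹) := by
  obtain ⟨m, hm⟩ := exists_m α
  let β : P ≃* P := α.trans (MulAut.conj m⁻¹ : MulAut P)
  have hβ : ∀ p, β p = m⁻¹ * α p * m := by
    intro p
    show m⁻¹ * α p * m⁻¹⁻¹ = _
    rw [inv_inv]
  have hαβ : ∀ p, α p = m * β p * m⁻¹ := by
    intro p
    rw [hβ]; group
  have hψ : ∀ k ∈ K, ψ (β k) = ψ k := by
    intro k hk
    rw [hβ, map_mul, map_mul, map_inv, hm k hk, map_mul, map_mul, map_inv]
    group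
  have hcen : ∀ k : K, β k * (k : P)⁻¹ ∈ Subgroup.center P := by
    intro k
    have h1 : ψ (β k * (k : P)⁻¹) = 1 := by rw [map_mul, map_inv, hψ k k.2, mul_inv_cancel]
    rcases ker_ψ h1 with h | h
    · rw [h]; exact one_mem _
    · rw [h, Subgroup.mem_center_iff]; exact u_central
  let ζ : K →* Subgroup.center P :=
    { toFun := fun k => ⟨β k * (k : P)⁻¹, hcen k⟩
      map_one' := Subtype.ext (by
        show β ((1 : K) : P) * ((1 : K) : P)⁻¹ = 1
        rw [Subgroup.coe_one, map_one, inv_one, mul_one])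
      map_mul' := fun a b => Subtype.ext (by
        show β ((a * b : K) : P) * ((a * b : K) : P)⁻¹ = (β a * (a : P)⁻¹) * (β b * (b : P)⁻¹)
        have hz := Subgroup.mem_center_iff.1 (hcen b) (a : P)⁻¹
        rw [Subgroup.coe_mul, map_mul, mul_inv_rev]
        calc β a * β b * ((b : P)⁻¹ * (a : P)⁻¹) = β a * ((β b * (b : P)⁻¹) * (a : P)⁻¹) := by simp only [mul_assoc]
          _ = β a * ((a : P)⁻¹ * (β b * (b : P)⁻¹)) := by rw [hz]
          _ = _ := by simp only [mul_assoc]) }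
  have hζ : ∀ k ∈ K, β k = k := by
    intro k hk
    have h1 := perf_triv perfK (fun a b : Subgroup.center P => Subtype.ext (Subgroup.mem_center_iff.1 b.2 (a : P))) ζ ⟨k, hk⟩
    have h2 : β k * k⁻¹ = 1 := congrArg Subtype.val h1
    exact mul_inv_eq_one.1 h2
  have he : ∀ p : P, β p * p⁻¹ = 1 ∨ β p * p⁻¹ = px ^ 2 := by
    intro p
    apply central_of
    intro k hk
    have hk' : p⁻¹ * k * p ∈ K := by
      have := (normal_K relP closureP).conj_mem k hk p⁻¹
      rwa [inv_inv] at this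
    have h1 : β p * (p⁻¹ * k * p) * (β p)⁻¹ = k := by
      have h2 : β (p * (p⁻¹ * k * p) * p⁻¹) = p * (p⁻¹ * k * p) * p⁻¹ := by
        apply hζ
        have : p * (p⁻¹ * k * p) * p⁻¹ = k := by group
        rw [this]; exact hk
      rw [map_mul, map_mul, map_inv, hζ _ hk'] at h2
      rw [h2]; group
    calc β p * p⁻¹ * k = (β p * (p⁻¹ * k * p) * (β p)⁻¹) * (β p * p⁻¹) := by group
      _ = k * (β p * p⁻¹) := by rw [h1]
  refine ⟨m, ?_, ?_, ?_⟩
  · rw [hαβ, hζ _ (x_mem _ _ _)]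
  · rw [hαβ, hζ _ (y_mem _ _ _)]
  · rcases he pz with h | h
    · left
      rw [hαβ, mul_inv_eq_one.1 h]
    · right
      have : β pz = pz * px ^ 2 := by
        rw [u_central, ← h]; group
      rw [hαβ, this]

end H40.HNO
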