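import Cfsg.Agent.Lib.H2.HN.HNTriv

set_option autoImplicit false
set_option maxRecDepth 10000
set_option linter.all false

/-! The outer automorphism of the presented Harada–Norton group. -/

namespace H40.HNO

open H2.HN Cfsg.Spor

/-- all fourteen relators -/
structure HRel {Γ : Type} [Group Γ] (x y z t : Γ) : Prop where
  r : Rel x y z
  t5 : t ^ 5 = 1
  xt : (x⁻¹ * t * x) * t ^ 2 = 1
  ty : t⁻¹ * y⁻¹ * t * y = 1
  zt : (z * t) ^ 3 = 1

theorem hrel : HRel hx hy hz ht := ⟨relHN.1, relHN.2.1, relHN.2.2.1, relHN.2.2.2.1, relHN.2.2.2.2⟩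

section gen

variable {Γ : Type} [Group Γ] {x y z t : Γ} (h : HRel x y z t)

include h in
theorem HRel.tx : x⁻¹ * t * x = (t ^ 2)⁻¹ := eq_inv_of_mul_eq_one_left h.xt

include h in
theorem HRel.t4 : t ^ 4 = t⁻¹ := by
  rw [eq_inv_iff_mul_eq_one, ← pow_succ]; exact h.t5

include h in
/-- `x²` inverts `t` -/
theorem HRel.tc : (x ^ 2)⁻¹ * t * x ^ 2 = t⁻¹ := by
  calc (x ^ 2)⁻¹ * t * x ^ 2 = x⁻¹ * (x⁻¹ * t * x) * x := by
        simp only [pow_two, mul_inv_rev, mul_assoc]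
    _ = x⁻¹ * (t ^ 2)⁻¹ * x := by rw [h.tx]
    _ = ((x⁻¹ * t * x) ^ 2)⁻¹ := by simp only [pow_two, mul_inv_rev, inv_inv, mul_assoc, mul_inv_cancel_left]
    _ = t ^ 4 := by rw [h.tx, inv_pow, inv_inv, ← pow_mul]
    _ = t⁻¹ := h.t4

include h in
theorem HRel.cty : Commute t y := by
  have h1 := h.ty
  have h2 : t * y = y * t := by
    calc t * y = y * t * (t⁻¹ * y⁻¹ * t * y) := by group
      _ = y * t := by rw [h1, mul_one]
  exact h2

include h in
/-- `x⁻¹ z x = z x²` -/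
theorem HRel.zx : x⁻¹ * z * x = z * x ^ 2 := by
  have h1 := h.r.zx
  have h2 : x⁻¹ * z = z * x := by rw [← h1]; group
  rw [h2, pow_two, mul_assoc]

include h in
theorem HRel.cz : z * x ^ 2 = x ^ 2 * z := h.r.comm_z.eq

include h in
theorem HRel.cc : x ^ 2 * x ^ 2 = 1 := h.r.u2

include h in
/-- `t` commutes with `x⁻¹ y x` -/
theorem HRel.ctv : Commute t (x⁻¹ * y * x) := by
  have h1 : Commute (x⁻¹ * t * x) (x⁻¹ * y * x) := by
    have h2 := h.cty
    show x⁻¹ * t * x * (x⁻¹ * y * x) = x⁻¹ * y * x * (x⁻¹ * t * x)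
    calc x⁻¹ * t * x * (x⁻¹ * y * x) = x⁻¹ * (t * y) * x := by group
      _ = x⁻¹ * (y * t) * x := by rw [h2.eq]
      _ = _ := by group
  rw [h.tx] at h1
  have h3 : t = ((t ^ 2)⁻¹) ^ 2 := by
    rw [inv_pow, ← pow_mul, show 2 * 2 = 4 by norm_num, h.t4, inv_inv]
  rw [h3]
  exact h1.pow_left 2

include h in
theorem HRel.alr : Rel x y (z * x ^ 2) := by
  have hr := h.r
  have hc := h.cc
  have cx : ∀ a ∈ Subgroup.closure ({x, y, z} : Set Γ), Commute a (x ^ 2) := fun a ha => hr.u_central ha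
  have mx : x ∈ Subgroup.closure ({x, y, z} : Set Γ) := Subgroup.subset_closure (by simp)
  have my : y ∈ Subgroup.closure ({x, y, z} : Set Γ) := Subgroup.subset_closure (by simp)
  have mz : z ∈ Subgroup.closure ({x, y, z} : Set Γ) := Subgroup.subset_closure (by simp)
  refine ⟨hr.r1, hr.r2, hr.r3, hr.r4, hr.r5, hr.r6, ?_, ?_, ?_, ?_⟩
  · rw [(cx z mz).mul_pow, hr.r7, one_mul, pow_two (x ^ 2), hc]
  · have e : z * x ^ 2 * x = z * x * x ^ 2 := by simp only [pow_two, mul_assoc]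
    rw [e, (cx _ (mul_mem mz mx)).mul_pow, hr.r8, one_mul, pow_two (x ^ 2), hc]
  · have h9 := hr.r9
    set w := y * x * y * x * (y ^ 2) * x * (y⁻¹) with hw
    have mw : w ∈ Subgroup.closure ({x, y, z} : Set Γ) :=
      mul_mem (mul_mem (mul_mem (mul_mem (mul_mem (mul_mem my mx) my) mx) (pow_mem my 2)) mx) (inv_mem my)
    have c1 := (cx w mw).eq
    have c2 : Commute (z⁻¹ * w⁻¹ * z * w) (x ^ 2) :=
      cx _ (mul_mem (mul_mem (mul_mem (inv_mem mz) (inv_mem mw)) mz) mw)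
    have e : (z * x ^ 2)⁻¹ * w⁻¹ * (z * x ^ 2) * w = z⁻¹ * w⁻¹ * z * w := by
      calc (z * x ^ 2)⁻¹ * w⁻¹ * (z * x ^ 2) * w = (x ^ 2)⁻¹ * z⁻¹ * w⁻¹ * z * (x ^ 2 * w) := by
            simp only [mul_inv_rev, mul_assoc]
        _ = (x ^ 2)⁻¹ * z⁻¹ * w⁻¹ * z * (w * x ^ 2) := by rw [c1]
        _ = (x ^ 2)⁻¹ * ((z⁻¹ * w⁻¹ * z * w) * x ^ 2) := by simp only [mul_assoc]
        _ = (x ^ 2)⁻¹ * (x ^ 2 * (z⁻¹ * w⁻¹ * z * w)) := by rw [c2.eq]
        _ = _ := by rw [inv_mul_cancel_left]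
    rw [e]
    exact h9
  · have h10 := hr.r10
    set v := (y ^ 3) * x * y * x * y with hv
    have mv : v ∈ Subgroup.closure ({x, y, z} : Set Γ) :=
      mul_mem (mul_mem (mul_mem (mul_mem (pow_mem my 3) mx) my) mx) my
    have c1 := (cx v mv).eq
    have mA : v⁻¹ * z * v ∈ Subgroup.closure ({x, y, z} : Set Γ) := mul_mem (mul_mem (inv_mem mv) mz) mv
    have e : v⁻¹ * (z * x ^ 2) * v * x = v⁻¹ * z * v * x * x ^ 2 := by
      calc v⁻¹ * (z * x ^ 2) * v * x = v⁻¹ * z * (x ^ 2 * v) * x := by simp only [mul_assoc]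
        _ = v⁻¹ * z * (v * x ^ 2) * x := by rw [c1]
        _ = _ := by simp only [pow_two, mul_assoc]
    have cA : Commute (v⁻¹ * z * v * x) (x ^ 2) := cx _ (mul_mem mA mx)
    rw [e, cA.mul_pow]
    have c3 : Commute ((v⁻¹ * z * v * x) ^ 3) (x ^ 2) := cA.pow_left 3
    calc z * x ^ 2 * ((v⁻¹ * z * v * x) ^ 3 * (x ^ 2) ^ 3) = z * (x ^ 2 * (v⁻¹ * z * v * x) ^ 3) * (x ^ 2) ^ 3 := by
          simp only [mul_assoc]
      _ = z * ((v⁻¹ * z * v * x) ^ 3 * x ^ 2) * (x ^ 2) ^ 3 := by rw [c3.eq]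
      _ = (z * (v⁻¹ * z * v * x) ^ 3) * ((x ^ 2 * x ^ 2) * (x ^ 2 * x ^ 2)) := by
          simp only [pow_succ (x ^ 2), pow_zero, one_mul, mul_assoc]
      _ = 1 := by rw [h10, hc, one_mul, one_mul]

include h in
theorem HRel.al : HRel x y (z * x ^ 2) ((t ^ 2)⁻¹) := by
  refine ⟨h.alr, ?_, ?_, ?_, ?_⟩
  · rw [inv_pow, ← pow_mul, mul_comm, pow_mul, h.t5, one_pow, inv_one]
  · have e : x⁻¹ * (t ^ 2)⁻¹ * x = ((x⁻¹ * t * x) ^ 2)⁻¹ := by
      simp only [pow_two, mul_inv_rev, inv_inv, mul_assoc, mul_inv_cancel_left]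
    rw [e, h.tx]; group
  · have h1 : Commute ((t ^ 2)⁻¹) y := (h.cty.pow_left 2).inv_left
    have h2 := h1.eq
    calc (t ^ 2)⁻¹⁻¹ * y⁻¹ * (t ^ 2)⁻¹ * y = (t ^ 2)⁻¹⁻¹ * y⁻¹ * ((t ^ 2)⁻¹ * y) := by rw [mul_assoc]
      _ = (t ^ 2)⁻¹⁻¹ * y⁻¹ * (y * (t ^ 2)⁻¹) := by rw [h2]
      _ = 1 := by group
  · have e : z * x ^ 2 * (t ^ 2)⁻¹ = x⁻¹ * (z * t) * x := by
      rw [← h.zx, ← h.tx]; group
    rw [e]
    have e2 : (x⁻¹ * (z * t) * x) ^ 3 = x⁻¹ * (z * t) ^ 3 * x := by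
      simp only [pow_succ, pow_zero, one_mul, mul_assoc, mul_inv_cancel_left]
    rw [e2, h.zt]; group

/-- `(z t²)³ = 1` collapses -/
theorem triv_zt2 {z t : Γ} (hz : z ^ 2 = 1) (t5 : t ^ 5 = 1) (h1 : (z * t) ^ 3 = 1) (h2 : (z * t ^ 2) ^ 3 = 1) : t = 1 := by
  have hz' : z * z = 1 := by rw [← pow_two]; exact hz
  have e1 : z * t * z = t⁻¹ * z * t⁻¹ := by
    have : z * t * (z * t) * (z * t) = 1 := by
      rw [← h1]; simp only [pow_succ, pow_zero, one_mul]
    have h3 : z * t * z = (t * z * t)⁻¹ := by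
      rw [eq_inv_iff_mul_eq_one, ← this]; simp only [mul_assoc]
    rw [h3]
    have hzi : z⁻¹ = z := inv_eq_of_mul_eq_one_right hz'
    rw [mul_inv_rev, mul_inv_rev, hzi]; simp only [mul_assoc]
  have e2 : z * t ^ 2 * z = (t ^ 2)⁻¹ * z * (t ^ 2)⁻¹ := by
    have : z * t ^ 2 * (z * t ^ 2) * (z * t ^ 2) = 1 := by
      rw [← h2]; simp only [pow_succ, pow_zero, one_mul]
    have h3 : z * t ^ 2 * z = (t ^ 2 * z * t ^ 2)⁻¹ := by
      rw [eq_inv_iff_mul_eq_one, ← this]; simp only [mul_assoc]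
    rw [h3]
    have hzi : z⁻¹ = z := inv_eq_of_mul_eq_one_right hz'
    rw [mul_inv_rev, mul_inv_rev, hzi]; simp only [mul_assoc]
  have hzi : z⁻¹ = z := inv_eq_of_mul_eq_one_right hz'
  -- z t² z = (z t z)²
  have e3 : z * t ^ 2 * z = (z * t * z) * (z * t * z) := by
    have : (z * t * z) * (z * t * z) = z * t * (z * z) * t * z := by simp only [mul_assoc]
    rw [this, hz', mul_one, pow_two]; simp only [mul_assoc]
  have e4 : z * t ^ 2 * z = t⁻¹ * (z * (t ^ 2)⁻¹ * z) * t⁻¹ := by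
    rw [e3, e1, pow_two, mul_inv_rev]; simp only [mul_assoc]
  have e5 : z * (t ^ 2)⁻¹ * z = t ^ 2 * z * t ^ 2 := by
    have : z * (t ^ 2)⁻¹ * z = (z * t ^ 2 * z)⁻¹ := by rw [mul_inv_rev, mul_inv_rev, hzi, mul_assoc]
    rw [this, e2, mul_inv_rev, mul_inv_rev, hzi, inv_inv]; simp only [mul_assoc]
  have e6 : z * t ^ 2 * z = t * z * t := by
    rw [e4, e5, pow_two]; group
  -- t⁻² z t⁻² = t z t
  have e7 : t ^ 3 * z * t ^ 3 = z := by
    have h3 : (t ^ 2)⁻¹ * z * (t ^ 2)⁻¹ = t * z * t := by rw [← e2, e6]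
    calc t ^ 3 * z * t ^ 3 = t ^ 2 * (t * z * t) * t ^ 2 := by
          simp only [pow_succ, pow_zero, one_mul, mul_assoc]
      _ = t ^ 2 * ((t ^ 2)⁻¹ * z * (t ^ 2)⁻¹) * t ^ 2 := by rw [h3]
      _ = z := by group
  -- z t³ z = t⁻³ = t²
  have e8 : z * t ^ 3 * z = t ^ 2 := by
    have h3 : t ^ 3 * (z * t ^ 3 * z) = 1 := by
      calc t ^ 3 * (z * t ^ 3 * z) = (t ^ 3 * z * t ^ 3) * z := by simp only [mul_assoc]
        _ = 1 := by rw [e7, hz']
    have h4 : z * t ^ 3 * z = (t ^ 3)⁻¹ := eq_inv_of_mul_eq_one_right h3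
    rw [h4, inv_eq_iff_mul_eq_one, ← pow_add]; exact t5
  -- hence z t² z = t⁻²·... : square of z t³ z
  have e9 : z * t * z = t ^ 4 := by
    have h3 : (z * t ^ 3 * z) * (z * t ^ 3 * z) = z * t ^ 6 * z := by
      calc (z * t ^ 3 * z) * (z * t ^ 3 * z) = z * t ^ 3 * (z * z) * t ^ 3 * z := by simp only [mul_assoc]
        _ = z * (t ^ 3 * t ^ 3) * z := by rw [hz', mul_one]; simp only [mul_assoc]
        _ = _ := by rw [← pow_add]
    rw [e8, ← pow_add] at h3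
    have h6 : t ^ 6 = t := by rw [pow_succ, t5, one_mul]
    rw [h6] at h3
    exact h3.symm
  -- t⁻¹ z t⁻¹ = t⁴ so z = t⁶ = t
  have e10 : z = t := by
    rw [e1] at e9
    calc z = t * (t⁻¹ * z * t⁻¹) * t := by group
      _ = t * t ^ 4 * t := by rw [e9]
      _ = t := by rw [← pow_succ', t5, one_mul]
  rw [e10] at hz'
  calc t = t ^ 5 * ((t * t) * (t * t))⁻¹ := by
        simp only [pow_succ, pow_zero, one_mul]; group
    _ = 1 := by rw [t5, hz']; simp

end gen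

/-! ### homomorphisms from the presented group -/

/-- generators -/
def gfun {Γ : Type} (x y z t : Γ) : HN.Gen → Γ
  | .x => x
  | .y => y
  | .z => z
  | .t => t

theorem rel_ok {Γ : Type} [Group Γ] {x y z t : Γ} (h : HRel x y z t) :
    ∀ r ∈ coxRelators HN.edges ∪ {r | r ∈ HN.extra}, FreeGroup.lift (gfun x y z t) r = 1 := by
  have ex : FreeGroup.lift (gfun x y z t) HN.x = x := FreeGroup.lift_apply_of
  have ey : FreeGroup.lift (gfun x y z t) HN.y = y := FreeGroup.lift_apply_of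
  have ez : FreeGroup.lift (gfun x y z t) HN.z = z := FreeGroup.lift_apply_of
  have et : FreeGroup.lift (gfun x y z t) HN.t = t := FreeGroup.lift_apply_of
  rintro r (⟨a, ha, _⟩ | hr)
  · simp [coxNodes, HN.edges] at ha
  · simp only [Set.mem_setOf_eq, HN.extra, List.mem_cons, List.mem_nil_iff, or_false] at hr
    rcases hr with rfl | rfl | rfl | rfl | rfl | rfl | rfl | rfl | rfl | rfl | rfl | rfl | rfl | rfl
    · simp only [map_mul, map_pow, map_inv, ex, ey, ez, et]; exact h.r.r1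
    · simp only [map_mul, map_pow, map_inv, ex, ey, ez, et]; exact h.r.r2
    · simp only [map_mul, map_pow, map_inv, ex, ey, ez, et]; exact h.r.r3
    · simp only [map_mul, map_pow, map_inv, ex, ey, ez, et]; exact h.r.r4
    · simp only [map_mul, map_pow, map_inv, ex, ey, ez, et]; exact h.r.r5
    · simp only [map_mul, map_pow, map_inv, ex, ey, ez, et]; exact h.r.r6
    · simp only [map_mul, map_pow, map_inv, ex, ey, ez, et]; exact h.r.r7
    · simp only [map_mul, map_pow, map_inv, ex, ey, ez, et]; exact h.r.r8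
    · simp only [map_mul, map_pow, map_inv, ex, ey, ez, et]; exact h.r.r9
    · simp only [map_mul, map_pow, map_inv, ex, ey, ez, et]; exact h.r.r10
    · simp only [map_mul, map_pow, map_inv, ex, ey, ez, et]; exact h.t5
    · simp only [map_mul, map_pow, map_inv, ex, ey, ez, et]; exact h.xt
    · simp only [map_mul, map_pow, map_inv, ex, ey, ez, et]; exact h.ty
    · simp only [map_mul, map_pow, map_inv, ex, ey, ez, et]; exact h.zt

/-- homomorphism from the presented group -/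
noncomputable def hom {Γ : Type} [Group Γ] {x y z t : Γ} (h : HRel x y z t) : HNG →* Γ :=
  PresentedGroup.toGroup (rel_ok h)

section hom

variable {Γ : Type} [Group Γ] {x y z t : Γ} (h : HRel x y z t)

theorem hom_x : hom h hx = x := PresentedGroup.toGroup.of (rel_ok h)
theorem hom_y : hom h hy = y := PresentedGroup.toGroup.of (rel_ok h)
theorem hom_z : hom h hz = z := PresentedGroup.toGroup.of (rel_ok h)
theorem hom_t : hom h ht = t := PresentedGroup.toGroup.of (rel_ok h)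

theorem hom_ext {f g : HNG →* Γ} (e1 : f hx = g hx) (e2 : f hy = g hy) (e3 : f hz = g hz) (e4 : f ht = g ht) : f = g := by
  apply PresentedGroup.ext
  intro a
  cases a
  · exact e1
  · exact e2
  · exact e3
  · exact e4

end hom

/-- the endomorphism -/
noncomputable def al : HNG →* HNG := hom hrel.al

theorem al_x : al hx = hx := hom_x _
theorem al_y : al hy = hy := hom_y _
theorem al_z : al hz = hz * hx ^ 2 := hom_z _
theorem al_t : al ht = (ht ^ 2)⁻¹ := hom_t _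

theorem al_al : al.comp al = (MulAut.conj (hx ^ 2)⁻¹).toMonoidHom := by
  have hc := hrel.cc
  apply hom_ext
  · show al (al hx) = (hx ^ 2)⁻¹ * hx * (hx ^ 2)⁻¹⁻¹
    rw [al_x, al_x]; group
  · show al (al hy) = (hx ^ 2)⁻¹ * hy * (hx ^ 2)⁻¹⁻¹
    rw [al_y, al_y, inv_inv, mul_assoc, hrel.r.comm_y.eq, inv_mul_cancel_left]
  · show al (al hz) = (hx ^ 2)⁻¹ * hz * (hx ^ 2)⁻¹⁻¹
    rw [al_z, map_mul, map_pow, al_x, al_z, mul_assoc, hc, mul_one, inv_inv, mul_assoc, hrel.r.comm_z.eq,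
      inv_mul_cancel_left]
  · show al (al ht) = (hx ^ 2)⁻¹ * ht * (hx ^ 2)⁻¹⁻¹
    rw [inv_inv, hrel.tc, al_t, map_inv, map_pow, al_t, inv_pow, inv_inv, ← pow_mul]
    exact hrel.t4

theorem al_bij : Function.Bijective al := by
  have h : ∀ a, al (al a) = (hx ^ 2)⁻¹ * a * (hx ^ 2)⁻¹⁻¹ := fun a => DFunLike.congr_fun al_al a
  constructor
  · intro a b hab
    have h1 := h a
    rw [hab, h b] at h1
    have h2 := mul_right_cancel h1
    exact (mul_left_cancel h2).symm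
  · intro a
    refine ⟨al ((hx ^ 2) * a * (hx ^ 2)⁻¹), ?_⟩
    rw [h]; group

/-- the outer automorphism -/
noncomputable def alE : MulAut HNG := MulEquiv.ofBijective al al_bij

theorem alE_apply (a : HNG) : alE a = al a := rfl

end H40.HNO
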