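import Cfsg.Agent.Lib.H40.HNO4
import Cfsg.Agent.Lib.H40.HNO5

set_option autoImplicit false
set_option maxRecDepth 10000
set_option linter.all false

/-! The outer automorphism group of the presented Harada–Norton group: assembly. -/

namespace H40.HNO

open H2.HN Cfsg.Spor

/-- what is used about the action on 1539000 points -/
structure Dat (N : Subgroup HNG) (ρ : HNG →* Equiv.Perm ℕ) : Prop where
  hN : N = Subgroup.closure ({hx, hy, hz} : Set HNG)
  hmem : ∀ g, g ∈ N ↔ ρ g 0 = 0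
  hlt : ∀ g b, b < 1539000 → ρ g b < 1539000
  hcard : Nat.card HNG = 273030912000000
  hmax : ∀ C : Subgroup HNG, N ≤ C → C = N ∨ C = ⊤
  hne : N ≠ ⊤
  hu : ∀ b, b < 1539000 → ρ (hy * (hz * (hy * (hy * (hy * (hz * hx)))))) b = b → b = 0
  hU : ∀ b, b < 1539000 → ρ hy b = b → ρ (hx⁻¹ * hy * hx) b = b → b < 5

/-- `P → HN` -/
def LL : P →* HNG := lift relHN.1

theorem LL_x : LL px = hx := lift_x _
theorem LL_y : LL py = hy := lift_y _
theorem LL_z : LL pz = hz := lift_z _

/-- the element of order eleven -/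
noncomputable def uu : HNG := LL u11

theorem uu_eq : uu = hy * (hz * (hy * (hy * (hy * (hz * hx))))) := by
  have e : u11 = py * (pz * (py * (py * (py * (pz * px))))) := by
    simp [u11, w11, H35.Stem.ev, H35.Stem.el, pg]
  rw [uu, e]
  simp only [map_mul, LL_x, LL_y, LL_z]

theorem conj3 {Γ : Type} [Group Γ] (c w : Γ) : (c⁻¹ * w * c) ^ 3 = c⁻¹ * w ^ 3 * c := by
  simp only [pow_succ, pow_zero, one_mul, mul_assoc, mul_inv_cancel_left]

theorem gen_top {N : Subgroup HNG} (h1 : hx ∈ N) (h2 : hy ∈ N) (h3 : hz ∈ N) (h4 : ht ∈ N) : N = ⊤ := by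
  rw [eq_top_iff, ← PresentedGroup.closure_range_of, Subgroup.closure_le]
  rintro _ ⟨a, rfl⟩
  cases a
  · exact h1
  · exact h2
  · exact h3
  · exact h4

section out

variable {N : Subgroup HNG} {ρ : HNG →* Equiv.Perm ℕ} (D : Dat N ρ)

include D in
theorem mx : hx ∈ N := by rw [D.hN]; exact Subgroup.subset_closure (by simp)
include D in
theorem my : hy ∈ N := by rw [D.hN]; exact Subgroup.subset_closure (by simp)
include D in
theorem mz : hz ∈ N := by rw [D.hN]; exact Subgroup.subset_closure (by simp)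
include D in
theorem mt : ht ∉ N := fun h => D.hne (gen_top (mx D) (my D) (mz D) h)

include D in
theorem t_ne : ht ≠ 1 := fun h => mt D (by rw [h]; exact one_mem _)

include D in
theorem c_ne : hx ^ 2 ≠ 1 := x2_ne N (fun h => D.hne (Subgroup.index_eq_one.1 h))

include D in
theorem LL_inj : Function.Injective LL := (main relHN.1 (c_ne D) N D.hN).1

include D in
theorem LL_mem (p : P) : LL p ∈ N := by
  rw [D.hN, ← range_lift relHN.1]; exact ⟨p, rfl⟩

include D in
theorem LL_of {a : HNG} (ha : a ∈ N) : ∃ p, LL p = a := by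
  rw [D.hN, ← range_lift relHN.1] at ha; exact ha

include D in
theorem c_cen {a : HNG} (ha : a ∈ N) : a * hx ^ 2 = hx ^ 2 * a := by
  rw [D.hN] at ha
  exact (relHN.1.u_central ha).eq

include D in
theorem cent_c {a : HNG} (ha : a * hx ^ 2 = hx ^ 2 * a) : a ∈ N := by
  have hle : N ≤ Subgroup.centralizer {hx ^ 2} := by
    intro b hb
    rw [Subgroup.mem_centralizer_singleton_iff]
    exact c_cen D hb
  rcases D.hmax _ hle with h | h
  · rw [← h, Subgroup.mem_centralizer_singleton_iff]; exact ha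
  · exfalso
    have h1 : ht ∈ Subgroup.centralizer ({hx ^ 2} : Set HNG) := by rw [h]; trivial
    rw [Subgroup.mem_centralizer_singleton_iff] at h1
    have h2 := hrel.tc
    rw [mul_assoc, h1, inv_mul_cancel_left] at h2
    have h3 : ht * ht = 1 := by
      nth_rewrite 2 [h2]; exact mul_inv_cancel _
    apply t_ne D
    calc ht = ht ^ 5 * ((ht * ht) * (ht * ht))⁻¹ := by
          simp only [pow_succ, pow_zero, one_mul]; group
      _ = 1 := by rw [hrel.t5, h3]; simp

include D in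
theorem cent_uu {a : HNG} (ha : a * uu = uu * a) : a ∈ N := by
  rw [D.hmem]
  apply D.hu _ (D.hlt a 0 (by norm_num))
  rw [← uu_eq, ← Equiv.Perm.mul_apply, ← map_mul, ← ha, map_mul, Equiv.Perm.mul_apply]
  congr 1
  exact (D.hmem uu).1 (LL_mem D u11)

include D in
theorem uu_order : orderOf uu = 11 := by
  haveI : Fact (Nat.Prime 11) := ⟨by norm_num⟩
  apply orderOf_eq_prime
  · rw [uu, ← map_pow, u11_pow, map_one]
  · intro h
    have h1 := D.hu 1 (by norm_num) (by rw [← uu_eq, h]; exact DFunLike.congr_fun (map_one ρ) 1)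
    exact absurd h1 (by norm_num)

include D in
/-- after an inner automorphism, `x²` is fixed -/
theorem sylow_step (φ : MulAut HNG) : ∃ g : HNG, (MulAut.conj g * φ) (hx ^ 2) = hx ^ 2 := by
  haveI : Finite HNG := Nat.finite_of_card_ne_zero (by rw [D.hcard]; norm_num)
  haveI : Fact (Nat.Prime 11) := ⟨by norm_num⟩
  have hfac : (Nat.card HNG).factorization 11 = 1 := by
    rw [D.hcard, show 273030912000000 = 11 * 24820992000000 by norm_num,
      Nat.factorization_mul (by norm_num) (by norm_num), Finsupp.add_apply,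
      Nat.Prime.factorization_self (by norm_num), Nat.factorization_eq_zero_of_not_dvd (by norm_num)]
  have hZ : Nat.card (Subgroup.zpowers uu) = 11 := by rw [Nat.card_zpowers, uu_order D]
  have hW : Nat.card ((Subgroup.zpowers uu).map φ.toMonoidHom) = 11 := by
    rw [Subgroup.card_map_of_injective φ.injective, hZ]
  let S1 : Sylow 11 HNG := Sylow.ofCard (Subgroup.zpowers uu) (by rw [hZ, hfac, pow_one])
  let S2 : Sylow 11 HNG := Sylow.ofCard ((Subgroup.zpowers uu).map φ.toMonoidHom) (by rw [hW, hfac, pow_one])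
  obtain ⟨g, hg⟩ := MulAction.exists_smul_eq HNG S2 S1
  refine ⟨g, ?_⟩
  have h1 : uu ∈ (S1 : Subgroup HNG) := Subgroup.mem_zpowers uu
  rw [← hg, Sylow.coe_subgroup_smul, Subgroup.mem_smul_pointwise_iff_exists] at h1
  obtain ⟨s, ⟨z0, hz0, rfl⟩, hs⟩ := h1
  have hs' : (MulAut.conj g * φ) z0 = uu := hs
  obtain ⟨k, rfl⟩ := Subgroup.mem_zpowers_iff.1 hz0
  have hcu : Commute uu (hx ^ 2) := c_cen D (LL_mem D u11)
  have hck : Commute (uu ^ k) (hx ^ 2) := hcu.zpow_left k
  have h2 : (MulAut.conj g * φ) (hx ^ 2) * uu = uu * (MulAut.conj g * φ) (hx ^ 2) := by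
    rw [← hs', ← map_mul, ← map_mul, hck.eq]
  obtain ⟨p, hp⟩ := LL_of D (cent_uu D h2)
  rw [← hp] at h2 ⊢
  have hinj := LL_inj D
  have h3 : p * u11 = u11 * p := hinj (by rw [map_mul, map_mul]; exact h2)
  have h4 : p * p = 1 := by
    apply hinj
    rw [map_mul, hp, ← map_mul, hrel.cc, map_one, map_one]
  rcases cent_u h3 h4 with h5 | h5
  · exfalso
    rw [h5, map_one] at hp
    exact c_ne D ((MulAut.conj g * φ).injective (by rw [← hp, map_one]))
  · rw [h5, map_pow, LL_x]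

include D in
theorem mem_iff {φ : MulAut HNG} (h : φ (hx ^ 2) = hx ^ 2) (a : HNG) : φ a ∈ N ↔ a ∈ N := by
  constructor
  · intro ha
    apply cent_c D
    apply φ.injective
    rw [map_mul, map_mul, h]
    exact c_cen D ha
  · intro ha
    apply cent_c D
    have := congrArg φ (c_cen D ha)
    rw [map_mul, map_mul, h] at this
    exact this

include D in
theorem exists_alpha {φ : MulAut HNG} (h : φ (hx ^ 2) = hx ^ 2) : ∃ α : P ≃* P, ∀ p, LL (α p) = φ (LL p) := by
  classical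
  have hinj := LL_inj D
  let e : P ≃* N := (MonoidHom.ofInjective hinj).trans
    (MulEquiv.subgroupCongr ((range_lift relHN.1).trans D.hN.symm))
  have he : ∀ n : N, LL (e.symm n) = n := by
    intro n
    obtain ⟨p, rfl⟩ := e.surjective n
    rw [MulEquiv.symm_apply_apply]
    rfl
  let α0 : P →* P := e.symm.toMonoidHom.comp ((φ.toMonoidHom.comp LL).codRestrict N
    (fun p => (mem_iff D h _).2 (LL_mem D p)))
  have h0 : ∀ p, LL (α0 p) = φ (LL p) := fun p => he _
  have hi : Function.Injective α0 := by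
    intro a b hab
    apply hinj
    apply φ.injective
    rw [← h0, ← h0, hab]
  have hs : Function.Surjective α0 := by
    intro q
    have h1 : φ.symm (LL q) ∈ N := by
      rw [← mem_iff D h]
      rw [MulEquiv.apply_symm_apply]
      exact LL_mem D q
    obtain ⟨p, hp⟩ := LL_of D h1
    refine ⟨p, hinj ?_⟩
    rw [h0, hp, MulEquiv.apply_symm_apply]
  exact ⟨MulEquiv.ofBijective α0 ⟨hi, hs⟩, h0⟩

include D in
/-- after a further inner automorphism `x, y` are fixed and `z ↦ z` or `z x²` -/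
theorem norm_step (φ : MulAut HNG) : ∃ g : HNG, (MulAut.conj g * φ) hx = hx ∧ (MulAut.conj g * φ) hy = hy ∧
    ((MulAut.conj g * φ) hz = hz ∨ (MulAut.conj g * φ) hz = hz * hx ^ 2) := by
  obtain ⟨g, hg⟩ := sylow_step D φ
  obtain ⟨α, hα⟩ := exists_alpha D hg
  obtain ⟨m, h1, h2, h3⟩ := aut_P α
  refine ⟨(LL m)⁻¹ * g, ?_, ?_, ?_⟩
  · have := hα px
    rw [h1, map_mul, map_mul, map_inv, LL_x] at this
    rw [map_mul, map_inv, mul_assoc, MulAut.mul_apply, ← this, MulAut.inv_apply, MulEquiv.symm_apply_eq, MulAut.conj_apply]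
  · have := hα py
    rw [h2, map_mul, map_mul, map_inv, LL_y] at this
    rw [map_mul, map_inv, mul_assoc, MulAut.mul_apply, ← this, MulAut.inv_apply, MulEquiv.symm_apply_eq, MulAut.conj_apply]
  · rcases h3 with h3 | h3
    · left
      have := hα pz
      rw [h3, map_mul, map_mul, map_inv, LL_z] at this
      rw [map_mul, map_inv, mul_assoc, MulAut.mul_apply, ← this, MulAut.inv_apply, MulEquiv.symm_apply_eq, MulAut.conj_apply]
    · right
      have := hα pz
      rw [h3, map_mul, map_mul, map_inv, map_mul, map_pow, LL_z, LL_x] at this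
      rw [map_mul, map_inv, mul_assoc, MulAut.mul_apply, ← this, MulAut.inv_apply, MulEquiv.symm_apply_eq, MulAut.conj_apply]

include D in
theorem pow_t_mem {k : ℕ} (hk : 0 < k) (h5 : k < 5) : ht ^ k ∉ N := by
  intro h
  apply mt D
  have t5 := hrel.t5
  interval_cases k
  · simpa using h
  · have := pow_mem h 3
    rw [← pow_mul, show 2 * 3 = 5 + 1 by norm_num, pow_succ, t5, one_mul] at this
    exact this
  · have := pow_mem h 2
    rw [← pow_mul, show 3 * 2 = 5 + 1 by norm_num, pow_succ, t5, one_mul] at this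
    exact this
  · have := pow_mem h 4
    rw [← pow_mul, show 4 * 4 = 5 * 3 + 1 by norm_num, pow_succ, pow_mul, t5, one_pow, one_mul] at this
    exact this

include D in
/-- an element commuting with `y` and `y ^ x` is `t ^ k` or `t ^ k x²` -/
theorem cent_big {a : HNG} (h1 : a * hy = hy * a) (h2 : a * (hx⁻¹ * hy * hx) = (hx⁻¹ * hy * hx) * a) :
    ∃ k, k < 5 ∧ (a = ht ^ k ∨ a = ht ^ k * hx ^ 2) := by
  have pt : ∀ b : HNG, b * hy = hy * b → b * (hx⁻¹ * hy * hx) = (hx⁻¹ * hy * hx) * b → ρ b 0 < 5 := by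
    intro b e1 e2
    have m2 : hx⁻¹ * hy * hx ∈ N := mul_mem (mul_mem (inv_mem (mx D)) (my D)) (mx D)
    apply D.hU _ (D.hlt b 0 (by norm_num))
    · rw [← Equiv.Perm.mul_apply, ← map_mul, ← e1, map_mul, Equiv.Perm.mul_apply, (D.hmem hy).1 (my D)]
    · rw [← Equiv.Perm.mul_apply, ← map_mul, ← e2, map_mul, Equiv.Perm.mul_apply, (D.hmem _).1 m2]
  have ct1 : ∀ k : ℕ, ht ^ k * hy = hy * ht ^ k := fun k => (hrel.cty.pow_left k).eq
  have ct2 : ∀ k : ℕ, ht ^ k * (hx⁻¹ * hy * hx) = (hx⁻¹ * hy * hx) * ht ^ k := fun k => (hrel.ctv.pow_left k).eq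
  let F : Fin 5 → Fin 5 := fun k => ⟨ρ (ht ^ (k : ℕ)) 0, pt _ (ct1 k) (ct2 k)⟩
  have aux : ∀ i j : ℕ, i < j → j < 5 → ρ (ht ^ i) 0 ≠ ρ (ht ^ j) 0 := by
    intro i j hij hj he
    have h3 : ρ (ht ^ (j - i)) 0 = 0 := by
      have e : ht ^ j = ht ^ i * ht ^ (j - i) := by rw [← pow_add]; congr 1; omega
      rw [e, map_mul, Equiv.Perm.mul_apply] at he
      exact ((ρ (ht ^ i)).injective he).symm
    exact pow_t_mem D (by omega) (by omega) ((D.hmem _).2 h3)
  have hF : Function.Injective F := by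
    intro i j hij
    have h3 : ρ (ht ^ (i : ℕ)) 0 = ρ (ht ^ (j : ℕ)) 0 := congrArg Fin.val hij
    rcases lt_trichotomy (i : ℕ) (j : ℕ) with h | h | h
    · exact absurd h3 (aux _ _ h j.2)
    · exact Fin.ext h
    · exact absurd h3.symm (aux _ _ h i.2)
  obtain ⟨k, hk⟩ := (Finite.injective_iff_surjective.1 hF) ⟨ρ a 0, pt a h1 h2⟩
  have hk' : ρ (ht ^ (k : ℕ)) 0 = ρ a 0 := congrArg Fin.val hk
  refine ⟨k, k.2, ?_⟩
  have h3 : (ht ^ (k : ℕ))⁻¹ * a ∈ N := by
    rw [D.hmem, map_mul, map_inv, Equiv.Perm.mul_apply, ← hk']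
    exact (ρ (ht ^ (k : ℕ))).symm_apply_apply 0
  obtain ⟨p, hp⟩ := LL_of D h3
  have hinj := LL_inj D
  have c1 : p * py = py * p := by
    apply hinj
    rw [map_mul, map_mul, hp, LL_y]
    have : Commute ((ht ^ (k : ℕ))⁻¹ * a) hy := ((show Commute (ht ^ (k : ℕ)) hy from ct1 k).inv_left).mul_left h1
    exact this.eq
  have c2 : p * (px⁻¹ * py * px) = (px⁻¹ * py * px) * p := by
    apply hinj
    rw [map_mul, map_mul LL (px⁻¹ * py * px) p, hp, map_mul, map_mul, map_inv, LL_x, LL_y]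
    have : Commute ((ht ^ (k : ℕ))⁻¹ * a) (hx⁻¹ * hy * hx) :=
      ((show Commute (ht ^ (k : ℕ)) (hx⁻¹ * hy * hx) from ct2 k).inv_left).mul_left h2
    exact this.eq
  rcases cent_U c1 c2 with h | h
  · left
    rw [h, map_one] at hp
    exact (inv_mul_eq_one.1 hp.symm).symm
  · right
    rw [h, map_pow, LL_x] at hp
    rw [hp, mul_inv_cancel_left]

include D in
/-- an automorphism fixing `x, y, z` is inner -/
theorem inner_of {θ : MulAut HNG} (h1 : θ hx = hx) (h2 : θ hy = hy) (h3 : θ hz = hz) : θ ∈ Cfsg.Inn HNG := by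
  have e1 : θ ht * hy = hy * θ ht := by
    have := congrArg θ hrel.cty.eq
    rw [map_mul, map_mul, h2] at this
    exact this
  have e2 : θ ht * (hx⁻¹ * hy * hx) = (hx⁻¹ * hy * hx) * θ ht := by
    have := congrArg θ hrel.ctv.eq
    simp only [map_mul, map_inv, h1, h2] at this
    exact this
  have e5 : (θ ht) ^ 5 = 1 := by rw [← map_pow, hrel.t5, map_one]
  have e3 : (hz * θ ht) ^ 3 = 1 := by
    have := congrArg θ hrel.zt
    rw [map_pow, map_mul, h3, map_one] at this
    exact this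
  have ne : θ ht ≠ 1 := fun h => t_ne D (θ.injective (by rw [h, map_one]))
  obtain ⟨k, hk, h | h⟩ := cent_big D e1 e2
  · -- power of t
    have one_case : θ ht = ht → θ ∈ Cfsg.Inn HNG := by
      intro hh
      have : θ = 1 := by
        apply MulEquiv.ext
        intro a
        have := hom_ext (f := θ.toMonoidHom) (g := MonoidHom.id HNG) h1 h2 h3 hh
        exact DFunLike.congr_fun this a
      rw [this]; exact one_mem _
    have inv_case : θ ht = ht⁻¹ → θ ∈ Cfsg.Inn HNG := by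
      intro hh
      refine ⟨(hx ^ 2)⁻¹, ?_⟩
      apply MulEquiv.ext
      intro a
      have := hom_ext (f := (MulAut.conj (hx ^ 2)⁻¹).toMonoidHom) (g := θ.toMonoidHom) (by
        show (hx ^ 2)⁻¹ * hx * (hx ^ 2)⁻¹⁻¹ = θ hx
        rw [h1]; group) (by
        show (hx ^ 2)⁻¹ * hy * (hx ^ 2)⁻¹⁻¹ = θ hy
        rw [h2, inv_inv, mul_assoc, hrel.r.comm_y.eq, inv_mul_cancel_left]) (by
        show (hx ^ 2)⁻¹ * hz * (hx ^ 2)⁻¹⁻¹ = θ hz
        rw [h3, inv_inv, mul_assoc, hrel.r.comm_z.eq, inv_mul_cancel_left]) (by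
        show (hx ^ 2)⁻¹ * ht * (hx ^ 2)⁻¹⁻¹ = θ ht
        rw [hh, inv_inv, hrel.tc])
      exact DFunLike.congr_fun this a
    have bad : (hz * ht ^ 2) ^ 3 = 1 → False := fun hb => t_ne D (triv_zt2 hrel.r.r7 hrel.t5 hrel.zt hb)
    interval_cases k
    · exact absurd (by rw [h, pow_zero]) ne
    · exact one_case (by rw [h, pow_one])
    · rw [h] at e3
      exact (bad e3).elim
    · exfalso
      apply bad
      rw [h] at e3
      -- conjugate by x²
      have h6 : (hx ^ 2)⁻¹ * ht ^ 3 * hx ^ 2 = ht ^ 2 := by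
        have h7 : (hx ^ 2)⁻¹ * ht ^ 3 * hx ^ 2 = ((hx ^ 2)⁻¹ * ht * hx ^ 2) ^ 3 := (conj3 _ _).symm
        rw [h7, hrel.tc, inv_pow, inv_eq_iff_mul_eq_one, ← pow_add]
        exact hrel.t5
      have h8 : (hx ^ 2)⁻¹ * hz * hx ^ 2 = hz := by
        rw [mul_assoc, hrel.r.comm_z.eq, inv_mul_cancel_left]
      have h9 : (hx ^ 2)⁻¹ * (hz * ht ^ 3) * hx ^ 2 = hz * ht ^ 2 := by
        calc (hx ^ 2)⁻¹ * (hz * ht ^ 3) * hx ^ 2 = ((hx ^ 2)⁻¹ * hz * hx ^ 2) * ((hx ^ 2)⁻¹ * ht ^ 3 * hx ^ 2) := by group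
          _ = hz * ht ^ 2 := by rw [h6, h8]
      rw [← h9]
      have h10 : ((hx ^ 2)⁻¹ * (hz * ht ^ 3) * hx ^ 2) ^ 3 = (hx ^ 2)⁻¹ * (hz * ht ^ 3) ^ 3 * hx ^ 2 := conj3 _ _
      rw [h10, e3]; group
    · exact inv_case (by rw [h, hrel.t4])
  · exfalso
    apply ne
    have h4 : (θ ht) ^ 2 = 1 := by
      have h5 : hx ^ 2 * ht ^ k = (ht ^ k)⁻¹ * hx ^ 2 := by
        have h6 : ∀ k : ℕ, (hx ^ 2)⁻¹ * ht ^ k * hx ^ 2 = (ht ^ k)⁻¹ := by
          intro k
          induction k with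
          | zero => simp
          | succ k ih =>
            calc (hx ^ 2)⁻¹ * ht ^ (k + 1) * hx ^ 2 = ((hx ^ 2)⁻¹ * ht ^ k * hx ^ 2) * ((hx ^ 2)⁻¹ * ht * hx ^ 2) := by
                  rw [pow_succ ht]; group
              _ = (ht ^ k)⁻¹ * ht⁻¹ := by rw [ih, hrel.tc]
              _ = _ := by rw [pow_succ' ht, mul_inv_rev]
        have hci : (hx ^ 2)⁻¹ = hx ^ 2 := hrel.r.u_inv
        have h7 := h6 k
        rw [hci] at h7
        rw [← h7, mul_assoc (hx ^ 2 * ht ^ k), hrel.cc, mul_one]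
      rw [h, pow_two]
      calc ht ^ k * hx ^ 2 * (ht ^ k * hx ^ 2) = ht ^ k * (hx ^ 2 * ht ^ k) * hx ^ 2 := by simp only [mul_assoc]
        _ = ht ^ k * ((ht ^ k)⁻¹ * hx ^ 2) * hx ^ 2 := by rw [h5]
        _ = hx ^ 2 * hx ^ 2 := by rw [mul_inv_cancel_left]
        _ = 1 := hrel.cc
    calc θ ht = (θ ht) ^ 5 * ((θ ht) ^ 2 * (θ ht) ^ 2)⁻¹ := by
          rw [← pow_add, eq_mul_inv_iff_mul_eq, ← pow_succ']
      _ = 1 := by rw [e5, h4]; simp

include D in
theorem al_not_inn : alE ∉ Cfsg.Inn HNG := by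
  rintro ⟨g, hg⟩
  have e : ∀ a, g * a * g⁻¹ = al a := fun a => by
    have := congrArg (fun (β : MulAut HNG) => β a) hg
    exact this
  have ex := e hx
  rw [al_x] at ex
  have ey := e hy
  rw [al_y] at ey
  have ez := e hz
  rw [al_z] at ez
  have ex' : g * hx = hx * g := mul_inv_eq_iff_eq_mul.1 ex
  have hc : g * hx ^ 2 = hx ^ 2 * g := ((show Commute g hx from ex').pow_right 2).eq
  obtain ⟨p, rfl⟩ := LL_of D (cent_c D hc)
  have hinj := LL_inj D
  have px' : p * px = px * p := hinj (by rw [map_mul, map_mul, LL_x]; exact ex')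
  have py' : p * py = py * p := hinj (by rw [map_mul, map_mul, LL_y]; exact mul_inv_eq_iff_eq_mul.1 ey)
  have pz' : p * pz = pz * px ^ 2 * p :=
    hinj (by rw [map_mul, map_mul, map_mul, map_pow, LL_z, LL_x]; exact mul_inv_eq_iff_eq_mul.1 ez)
  have key : ∀ q : P, ψ p * ψ q = ψ q * ψ p := by
    intro q
    have hq : q ∈ Subgroup.closure ({px, py, pz} : Set P) := by rw [closureP]; trivial
    have : Commute (ψ p) (ψ q) := by
      induction hq using Subgroup.closure_induction with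
      | mem a ha =>
        rcases ha with rfl | rfl | rfl
        · show ψ p * ψ px = ψ px * ψ p
          rw [← map_mul, px', map_mul]
        · show ψ p * ψ py = ψ py * ψ p
          rw [← map_mul, py', map_mul]
        · show ψ p * ψ pz = ψ pz * ψ p
          rw [← map_mul, pz', map_mul, map_mul, ψ_px2, mul_one]
      | one => rw [map_one]; exact Commute.one_right _
      | mul a b _ _ ha hb => rw [map_mul]; exact ha.mul_right hb
      | inv a _ ha => rw [map_inv]; exact ha.inv_right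
    exact this.eq
  have hψ : ψ p = 1 := by
    apply cent_trivial
    intro a
    obtain ⟨k, rfl⟩ := f_surj a
    rw [φ_f]
    exact key k
  have hcomm : p * pz = pz * p := by
    rcases ker_ψ hψ with h | h
    · rw [h, one_mul, mul_one]
    · rw [h, u_central]
  rw [hcomm] at pz'
  have h9 : pz * p = pz * p * px ^ 2 := by
    rw [mul_assoc pz p, u_central p, ← mul_assoc]; exact pz'
  exact px2_ne (mul_eq_left.1 h9.symm)

include D in
/-- **main theorem** -/
theorem out_card : Nat.card (Cfsg.Out HNG) = 2 := by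
  have hal1 : alE hx = hx := al_x
  have hal2 : alE hy = hy := al_y
  have hal3 : alE hz = hz * hx ^ 2 := al_z
  have hconj : ∀ g : HNG, (MulAut.conj g : MulAut HNG) ∈ Cfsg.Inn HNG := fun g => ⟨g, rfl⟩
  -- every automorphism is inner or `alE` times inner
  have dich : ∀ φ : MulAut HNG, φ ∈ Cfsg.Inn HNG ∨ φ * alE⁻¹ ∈ Cfsg.Inn HNG := by
    intro φ
    obtain ⟨g, h1, h2, h3⟩ := norm_step D φ
    rcases h3 with h3 | h3
    · left
      exact (Subgroup.mul_mem_cancel_left _ (hconj g)).1 (inner_of D h1 h2 h3)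
    · right
      have e1 : (alE⁻¹ * (MulAut.conj g * φ)) ∈ Cfsg.Inn HNG := by
        apply inner_of D
        · rw [MulAut.mul_apply, h1, MulAut.inv_apply, MulEquiv.symm_apply_eq]; exact hal1.symm
        · rw [MulAut.mul_apply, h2, MulAut.inv_apply, MulEquiv.symm_apply_eq]; exact hal2.symm
        · rw [MulAut.mul_apply, h3, MulAut.inv_apply, MulEquiv.symm_apply_eq]; exact hal3.symm
      have e2 : alE * (alE⁻¹ * (MulAut.conj g * φ)) * alE⁻¹ ∈ Cfsg.Inn HNG :=
        (Cfsg.innNormal HNG).conj_mem _ e1 _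
      have e3 : alE * (alE⁻¹ * (MulAut.conj g * φ)) * alE⁻¹ = MulAut.conj g * (φ * alE⁻¹) := by group
      rw [e3] at e2
      exact (Subgroup.mul_mem_cancel_left _ (hconj g)).1 e2
  have hidx : (Cfsg.Inn HNG).index = 2 := by
    rw [Subgroup.index_eq_two_iff]
    refine ⟨alE⁻¹, fun b => ?_⟩
    by_cases hb : b ∈ Cfsg.Inn HNG
    · refine Or.inr ⟨hb, fun h => ?_⟩
      have h1 : alE⁻¹ ∈ Cfsg.Inn HNG := (Subgroup.mul_mem_cancel_left _ hb).1 h
      exact al_not_inn D ((Subgroup.inv_mem_iff _).1 h1)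
    · rcases dich b with h | h
      · exact absurd h hb
      · exact Or.inl ⟨h, hb⟩
  exact hidx

end out

end H40.HNO
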