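import Cfsg.Agent.Lib.H40.HNO2
import Cfsg.Agent.Lib.H40.HNO6
import Cfsg.Agent.Lib.H9.HN.HNFaith
import Cfsg.Agent.Lib.H10.HNMax

set_option autoImplicit false
set_option linter.all false
set_option maxRecDepth 20000

/-! The outer automorphism group of the presented Harada–Norton group has order two. -/

namespace H40.HNO

open H2.HN Cfsg.Spor H10.NHN

theorem hub : (NW : Subgroup HN).index ≤ 1539000 ∧ (NW : Subgroup HN).index ≠ 0 := by
  rw [H9.HN.Idx.index_NW]
  exact ⟨le_rfl, by norm_num⟩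

theorem ρx : H10.NHN.ρ hx = π .x := ρ_of .x
theorem ρy : H10.NHN.ρ hy = π .y := ρ_of .y
theorem ρz : H10.NHN.ρ hz = π .z := ρ_of .z

theorem ρ_word7 : H10.NHN.ρ (hy * (hz * (hy * (hy * (hy * (hz * hx)))))) = (wu.map π).prod := by
  simp only [map_mul, ρx, ρy, ρz, wu, List.map_cons, List.map_nil, List.prod_cons, List.prod_nil, mul_one]

theorem ρ_v : H10.NHN.ρ (hx⁻¹ * hy * hx) = π .X * (π .y * π .x) := by
  rw [map_mul, map_mul, map_inv, ρx, ρy, pX, mul_assoc]

theorem dat : Dat (NW : Subgroup HNG) H10.NHN.ρ where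
  hN := closure_map
  hmem g := H10.HNMax.mem_iff hub g
  hlt g b hb := (H10.HNMax.ρ_lt_n g b).2 hb
  hcard := H9.HN.Faith.card_HN
  hmax C h := H10.HNMax.max hub C h
  hne h := by
    have h1 : (NW : Subgroup HN).index = 1539000 := H9.HN.Idx.index_NW
    have h2 : (NW : Subgroup HN) = ⊤ := h
    rw [h2, Subgroup.index_top] at h1
    exact absurd h1 (by norm_num)
  hu b hb h := by
    rw [ρ_word7] at h
    exact fix_u hb h
  hU b hb h1 h2 := by
    rw [ρy] at h1
    rw [ρ_v] at h2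
    exact fix_U hb h1 h2

theorem out_HN : Nat.card (Cfsg.Out Cfsg.Spor.HN) = 2 := out_card dat

end H40.HNO
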