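import Cfsg.Agent.Lib.H40.Stem
import Mathlib.GroupTheory.NoncommCoprod

/-!
# A bound for the 3-part of a stem extension: Sylow 3-subgroup `3^4 = V × W`
-/

set_option autoImplicit false
set_option linter.all false

namespace H40.ON3

open Subgroup
open scoped commutatorElement

section card

variable {G : Type} [Group G]

theorem card_mul_dvd {A B P : Subgroup G} (hc : ∀ a ∈ A, ∀ b ∈ B, a * b = b * a) (hd : ∀ x ∈ A, x ∈ B → x = 1)
    (hA : A ≤ P) (hB : B ≤ P) : Nat.card A * Nat.card B ∣ Nat.card P := by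
  let f : A × B →* P := MonoidHom.noncommCoprod (inclusion hA) (inclusion hB)
    (fun a b => Subtype.ext (hc a a.2 b b.2))
  have hf : Function.Injective f := by
    rw [injective_iff_map_eq_one]
    rintro ⟨a, b⟩ h
    have h1 : (a : G) * (b : G) = 1 := congrArg Subtype.val h
    have h2 : (a : G) = (b : G)⁻¹ := eq_inv_of_mul_eq_one_left h1
    have h3 : (a : G) = 1 := hd a a.2 (by rw [h2]; exact B.inv_mem b.2)
    have h4 : (b : G) = 1 := by rw [h3, one_mul] at h1; exact h1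
    exact Prod.ext (Subtype.ext h3) (Subtype.ext h4)
  have h := Subgroup.card_dvd_of_injective f hf
  rwa [Nat.card_prod] at h

/-- two commuting elements of order three -/
theorem nine_dvd {x y : G} (hxy : x * y = y * x) (hx3 : x ^ 3 = 1) (hy3 : y ^ 3 = 1) (hx : x ≠ 1) (hy : y ≠ 1)
    (h1 : y ≠ x) (h2 : y ≠ x⁻¹) : 9 ∣ Nat.card (closure {x, y}) := by
  have : Fact (Nat.Prime 3) := ⟨Nat.prime_three⟩
  have ox : orderOf x = 3 := orderOf_eq_prime hx3 hx
  have oy : orderOf y = 3 := orderOf_eq_prime hy3 hy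
  have key : ∀ z, z ∈ zpowers x → z = 1 ∨ z = x ∨ z = x⁻¹ := by
    intro z hz
    obtain ⟨n, rfl⟩ := mem_zpowers_iff.1 hz
    have h3 : x ^ n = x ^ (n % 3) := by
      conv_lhs => rw [← Int.emod_add_mul_ediv n 3, zpow_add, zpow_mul]
      have h4 : x ^ (3 : ℤ) = 1 := by exact_mod_cast hx3
      rw [h4, one_zpow, mul_one]
    rw [h3]
    have h5 : 0 ≤ n % 3 := Int.emod_nonneg _ (by norm_num)
    have h6 : n % 3 < 3 := Int.emod_lt_of_pos _ (by norm_num)
    have h7 : n % 3 = 0 ∨ n % 3 = 1 ∨ n % 3 = 2 := by omega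
    rcases h7 with h7 | h7 | h7
    · left; rw [h7, zpow_zero]
    · right; left; rw [h7, zpow_one]
    · right; right
      rw [h7]
      have h8 : x * x * x = 1 := by rw [← hx3, pow_succ, pow_two]
      rw [eq_inv_iff_mul_eq_one, zpow_ofNat, pow_two]
      exact h8
  have h9 := card_mul_dvd (A := zpowers x) (B := zpowers y) (P := closure {x, y}) (by
    intro a ha b hb
    obtain ⟨m, rfl⟩ := mem_zpowers_iff.1 ha
    obtain ⟨n, rfl⟩ := mem_zpowers_iff.1 hb
    exact ((show Commute x y from hxy).zpow_left m).zpow_right n) (by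
    intro z hz hz'
    -- `z` is a power of `y` and `1, x, x⁻¹`
    by_contra hne
    have h10 : orderOf z = 3 := by
      refine orderOf_eq_prime ?_ hne
      obtain ⟨m, rfl⟩ := mem_zpowers_iff.1 hz
      rw [← zpow_natCast, ← zpow_mul, mul_comm, zpow_mul, zpow_natCast, hx3, one_zpow]
    have h11 : zpowers z = zpowers y := by
      have : Finite (zpowers y) := by
        have := Nat.card_zpowers y
        exact Nat.finite_of_card_ne_zero (by rw [this, oy]; norm_num)
      refine Subgroup.eq_of_le_of_card_ge (zpowers_le.2 hz') ?_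
      rw [Nat.card_zpowers, Nat.card_zpowers, h10, oy]
    have h12 : y ∈ zpowers x := by
      have h13 : y ∈ zpowers z := by rw [h11]; exact mem_zpowers y
      exact (zpowers_le.2 hz) h13
    rcases key y h12 with h | h | h
    · exact hy h
    · exact h1 h
    · exact h2 h) (zpowers_le.2 (subset_closure (by simp))) (zpowers_le.2 (subset_closure (by simp)))
  rw [Nat.card_zpowers, Nat.card_zpowers, ox, oy] at h9
  exact h9

end card

section comm

variable {Γ G : Type} [Group Γ] [Group G] {σ : Γ →* G} (hc : ∀ m, σ m = 1 → ∀ x, x * m = m * x)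

include hc in
/-- commutators of lifts are invariant under conjugation -/
theorem comm_conj {X Y X' Y' N : Γ} (h : σ X * σ Y = σ Y * σ X) (hX : σ X' = σ (N⁻¹ * X * N))
    (hY : σ Y' = σ (N⁻¹ * Y * N)) : ⁅X', Y'⁆ = ⁅X, Y⁆ := by
  have hk : σ ⁅X, Y⁆ = 1 := by
    rw [map_commutatorElement, commutatorElement_eq_one_iff_mul_comm]; exact h
  have h1 : ∃ a, σ a = 1 ∧ X' = N⁻¹ * X * N * a :=
    ⟨(N⁻¹ * X * N)⁻¹ * X', by rw [map_mul, map_inv, hX, inv_mul_cancel], by group⟩
  have h2 : ∃ b, σ b = 1 ∧ Y' = N⁻¹ * Y * N * b :=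
    ⟨(N⁻¹ * Y * N)⁻¹ * Y', by rw [map_mul, map_inv, hY, inv_mul_cancel], by group⟩
  obtain ⟨a, ha, rfl⟩ := h1
  obtain ⟨b, hb, rfl⟩ := h2
  have ha' := hc a ha
  have hb' := hc b hb
  have e1 : ⁅N⁻¹ * X * N * a, N⁻¹ * Y * N * b⁆ = ⁅N⁻¹ * X * N, N⁻¹ * Y * N⁆ := by
    set x := N⁻¹ * X * N
    set y := N⁻¹ * Y * N
    rw [commutatorElement_def, commutatorElement_def]
    calc x * a * (y * b) * (x * a)⁻¹ * (y * b)⁻¹ = x * (a * y) * b * a⁻¹ * x⁻¹ * b⁻¹ * y⁻¹ := by group
      _ = x * y * (a * b) * a⁻¹ * x⁻¹ * b⁻¹ * y⁻¹ := by rw [← ha' y]; group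
      _ = x * y * (b * x⁻¹) * b⁻¹ * y⁻¹ := by rw [hb' a]; group
      _ = x * y * x⁻¹ * y⁻¹ := by rw [← hb' x⁻¹]; group
  have e2 : ⁅N⁻¹ * X * N, N⁻¹ * Y * N⁆ = N⁻¹ * ⁅X, Y⁆ * N := by
    rw [commutatorElement_def, commutatorElement_def]; group
  rw [e1, e2, mul_assoc, ← hc _ hk N]
  group

include hc in
/-- commutators with a product -/
theorem comm_inv_right {X Y : Γ} (h : σ X * σ Y = σ Y * σ X) : ⁅X, Y⁻¹⁆ = ⁅X, Y⁆⁻¹ := by
  have hk : σ ⁅X, Y⁆ = 1 := by
    rw [map_commutatorElement, commutatorElement_eq_one_iff_mul_comm]; exact h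
  have h1 := hc _ hk Y
  have e : ⁅X, Y⁻¹⁆ = Y⁻¹ * ⁅X, Y⁆⁻¹ * Y := by rw [commutatorElement_def, commutatorElement_def]; group
  have h2 : ⁅X, Y⁆⁻¹ * Y = Y * ⁅X, Y⁆⁻¹ := by
    calc ⁅X, Y⁆⁻¹ * Y = ⁅X, Y⁆⁻¹ * (Y * ⁅X, Y⁆) * ⁅X, Y⁆⁻¹ := by group
      _ = ⁅X, Y⁆⁻¹ * (⁅X, Y⁆ * Y) * ⁅X, Y⁆⁻¹ := by rw [h1]
      _ = _ := by group
  rw [e, mul_assoc, h2]; group

include hc in
theorem comm_cube {X Y : Γ} (h : σ X * σ Y = σ Y * σ X) (h3 : σ X ^ 3 = 1) : ⁅X, Y⁆ ^ 3 = 1 := by
  have hk : σ ⁅X, Y⁆ = 1 := by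
    rw [map_commutatorElement, commutatorElement_eq_one_iff_mul_comm]; exact h
  have hcc := hc _ hk
  have hX3 := hc (X ^ 3) (by rw [map_pow]; exact h3) Y
  set m := ⁅X, Y⁆ with hm
  have e1 : X * Y = m * (Y * X) := by rw [hm, commutatorElement_def]; group
  have e2 : X ^ 3 * Y = m ^ 3 * (Y * X ^ 3) := by
    have c1 := hcc X
    calc X ^ 3 * Y = X * X * (X * Y) := by rw [pow_succ, pow_two]; group
      _ = X * X * (m * (Y * X)) := by rw [e1]
      _ = X * (X * m) * Y * X := by group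
      _ = X * (m * X) * Y * X := by rw [c1]
      _ = (X * m) * (X * Y) * X := by group
      _ = (X * m) * (m * (Y * X)) * X := by rw [e1]
      _ = (m * X) * (m * (Y * X)) * X := by rw [c1]
      _ = (m * X) * m * Y * X * X := by group
      _ = m * (X * m) * Y * X * X := by group
      _ = m * (m * (X * Y)) * X * X := by rw [c1]; group
      _ = m * (m * (m * (Y * X))) * X * X := by rw [e1]
      _ = m ^ 3 * (Y * X ^ 3) := by simp only [pow_succ, pow_zero, one_mul]; group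
  rw [← hX3] at e2
  have e3 : m ^ 3 * (Y * X ^ 3) = 1 * (Y * X ^ 3) := by rw [one_mul]; exact e2.symm
  exact mul_right_cancel e3

end comm

variable {Γ G : Type} [Group Γ] [Group G] {σ : Γ →* G}

/-- data in the base group -/
structure Data (x1 x2 y1 y2 e n : G) : Prop where
  c12 : x1 * x2 = x2 * x1
  d12 : y1 * y2 = y2 * y1
  c11 : x1 * y1 = y1 * x1
  c12y : x1 * y2 = y2 * x1
  c21 : x2 * y1 = y1 * x2
  c22 : x2 * y2 = y2 * x2
  x1c : x1 ^ 3 = 1
  x2c : x2 ^ 3 = 1
  y1c : y1 ^ 3 = 1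
  y2c : y2 ^ 3 = 1
  ex1 : e⁻¹ * x1 * e = x1
  ex2 : e⁻¹ * x2 * e = x2
  ey1 : e⁻¹ * y1 * e = y1⁻¹
  ey2 : e⁻¹ * y2 * e = y2⁻¹
  n1 : n⁻¹ * x1 * n = y2
  n2 : n⁻¹ * x2 * n = y1⁻¹
  x1n : x1 ≠ 1
  x2n : x2 ≠ 1
  x12 : x2 ≠ x1
  x12' : x2 ≠ x1⁻¹

/-- the Sylow subgroup -/
def Pg (x1 x2 y1 y2 : G) : Subgroup G := closure {x1, x2, y1, y2}

theorem Data.card {x1 x2 y1 y2 e n : G} (h : Data x1 x2 y1 y2 e n) : 81 ∣ Nat.card (Pg x1 x2 y1 y2) := by
  have hV := nine_dvd h.c12 h.x1c h.x2c h.x1n h.x2n h.x12 h.x12'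
  have hy2 : y2 ≠ 1 := by
    intro h1; rw [← h.n1] at h1
    apply h.x1n
    calc x1 = n * (n⁻¹ * x1 * n) * n⁻¹ := by group
      _ = 1 := by rw [h1]; group
  have hy1 : y1 ≠ 1 := by
    intro h1
    have h2 := h.n2
    rw [h1, inv_one] at h2
    apply h.x2n
    calc x2 = n * (n⁻¹ * x2 * n) * n⁻¹ := by group
      _ = 1 := by rw [h2]; group
  have hx2 : x2 = n * y1⁻¹ * n⁻¹ := by rw [← h.n2]; group
  have hx1 : x1 = n * y2 * n⁻¹ := by rw [← h.n1]; group
  have hW := nine_dvd h.d12 h.y1c h.y2c hy1 hy2 (by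
    intro h1
    apply h.x12'
    rw [hx2, hx1, h1]; group) (by
    intro h1
    apply h.x12
    rw [hx2, hx1, h1])
  -- the involution centralises V and inverts W
  have hVe : ∀ z ∈ closure {x1, x2}, e⁻¹ * z * e = z := by
    intro z hz
    induction hz using closure_induction with
    | mem z hz =>
      rcases hz with rfl | rfl
      · exact h.ex1
      · exact h.ex2
    | one => group
    | mul a b _ _ ha hb =>
      calc e⁻¹ * (a * b) * e = (e⁻¹ * a * e) * (e⁻¹ * b * e) := by group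
        _ = a * b := by rw [ha, hb]
    | inv a _ ha =>
      calc e⁻¹ * a⁻¹ * e = (e⁻¹ * a * e)⁻¹ := by group
        _ = a⁻¹ := by rw [ha]
  have hWc : ∀ z ∈ closure {y1, y2}, ∀ w ∈ closure {y1, y2}, z * w = w * z := by
    intro z hz w hw
    have : IsMulCommutative (closure {y1, y2}) := by
      refine Subgroup.isMulCommutative_closure ?_
      rintro a (rfl | rfl) b (rfl | rfl)
      · rfl
      · exact h.d12
      · exact h.d12.symm
      · rfl
    exact congrArg Subtype.val (this.is_comm.comm (⟨z, hz⟩ : closure {y1, y2}) ⟨w, hw⟩)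
  have hWe : ∀ z ∈ closure {y1, y2}, e⁻¹ * z * e = z⁻¹ := by
    intro z hz
    induction hz using closure_induction with
    | mem z hz =>
      rcases hz with rfl | rfl
      · exact h.ey1
      · exact h.ey2
    | one => group
    | mul a b ha' hb' ha hb =>
      calc e⁻¹ * (a * b) * e = (e⁻¹ * a * e) * (e⁻¹ * b * e) := by group
        _ = a⁻¹ * b⁻¹ := by rw [ha, hb]
        _ = (b * a)⁻¹ := by group
        _ = (a * b)⁻¹ := by rw [hWc a ha' b hb']
    | inv a _ ha =>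
      calc e⁻¹ * a⁻¹ * e = (e⁻¹ * a * e)⁻¹ := by group
        _ = a⁻¹⁻¹ := by rw [ha]
  have hW3 : ∀ z ∈ closure {y1, y2}, z ^ 3 = 1 := by
    intro z hz
    induction hz using closure_induction with
    | mem z hz =>
      rcases hz with rfl | rfl
      · exact h.y1c
      · exact h.y2c
    | one => exact one_pow 3
    | mul a b ha' hb' ha hb =>
      rw [(show Commute a b from hWc a ha' b hb').mul_pow, ha, hb, one_mul]
    | inv a _ ha => rw [inv_pow, ha, inv_one]
  have h9 := card_mul_dvd (A := closure {x1, x2}) (B := closure {y1, y2}) (P := Pg x1 x2 y1 y2) (by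
    intro a ha b hb
    have h1 : a ∈ centralizer {b} := by
      have h2 : closure {x1, x2} ≤ centralizer {b} := by
        rw [closure_le]
        have h3 : ∀ x, (x = x1 ∨ x = x2) → x * b = b * x := by
          intro x hx
          have h4 : b ∈ centralizer {x} := by
            have h5 : closure {y1, y2} ≤ centralizer {x} := by
              rw [closure_le]
              rintro y (rfl | rfl)
              · refine mem_centralizer_singleton_iff.2 ?_
                rcases hx with rfl | rfl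
                · exact h.c11.symm
                · exact h.c21.symm
              · refine mem_centralizer_singleton_iff.2 ?_
                rcases hx with rfl | rfl
                · exact h.c12y.symm
                · exact h.c22.symm
            exact h5 hb
          exact (mem_centralizer_singleton_iff.1 h4).symm
        rintro x (rfl | rfl)
        · exact mem_centralizer_singleton_iff.2 (h3 _ (Or.inl rfl))
        · exact mem_centralizer_singleton_iff.2 (h3 _ (Or.inr rfl))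
      exact h2 ha
    exact mem_centralizer_singleton_iff.1 h1) (by
    intro z hz hz'
    have h1 := hVe z hz
    rw [hWe z hz'] at h1
    have h2 := hW3 z hz'
    have h3 : z * z = 1 := by nth_rw 1 [← h1]; rw [inv_mul_cancel]
    rw [pow_succ, pow_two, h3, one_mul] at h2
    exact h2) (closure_mono (by
      rintro x (rfl | rfl) <;> simp)) (closure_mono (by
      rintro x (rfl | rfl) <;> simp))
  exact (Nat.mul_dvd_mul hV hW).trans h9

/-- the commutator subgroup of the preimage of the Sylow subgroup is of order at most three -/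
theorem Data.bound {x1 x2 y1 y2 e n : G} (h : Data x1 x2 y1 y2 e n) (hσ : Cfsg.IsStemExtension σ)
    [(Pg x1 x2 y1 y2).FiniteIndex] :
    ∃ w : Γ, w ^ 3 = 1 ∧ ∀ z ∈ σ.ker, z ^ (Pg x1 x2 y1 y2).index ∈ zpowers w := by
  have hc : ∀ m, σ m = 1 → ∀ x, x * m = m * x := fun m hm x => mem_center_iff.1 (hσ.2.1 hm) x
  obtain ⟨X1, hX1⟩ := hσ.1 x1
  obtain ⟨X2, hX2⟩ := hσ.1 x2
  obtain ⟨Y1, hY1⟩ := hσ.1 y1
  obtain ⟨Y2, hY2⟩ := hσ.1 y2
  obtain ⟨E, hE⟩ := hσ.1 e
  obtain ⟨N, hN⟩ := hσ.1 n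
  have hconj : ∀ Z M : Γ, σ (M⁻¹ * Z * M) = (σ M)⁻¹ * σ Z * σ M := fun Z M => by rw [map_mul, map_mul, map_inv]
  -- V and W
  have hVW : ∀ X Y : Γ, σ X * σ Y = σ Y * σ X → σ X ^ 3 = 1 → (σ E)⁻¹ * σ X * σ E = σ X →
      (σ E)⁻¹ * σ Y * σ E = (σ Y)⁻¹ → ⁅X, Y⁆ = 1 := by
    intro X Y h1 h2 h3 h4
    have h5 : ⁅X, Y⁻¹⁆ = ⁅X, Y⁆ := comm_conj hc (N := E) h1 (by rw [hconj, h3]) (by rw [hconj, h4, map_inv])
    rw [comm_inv_right hc h1] at h5
    have h6 := comm_cube hc h1 h2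
    have h7 : ⁅X, Y⁆ * ⁅X, Y⁆ = 1 := by nth_rw 1 [← h5]; rw [inv_mul_cancel]
    rw [pow_succ, pow_two, h7, one_mul] at h6
    exact h6
  have b11 : ⁅X1, Y1⁆ = 1 := hVW X1 Y1 (by rw [hX1, hY1, h.c11]) (by rw [hX1, h.x1c]) (by rw [hX1, hE, h.ex1])
    (by rw [hY1, hE, h.ey1])
  have b12 : ⁅X1, Y2⁆ = 1 := hVW X1 Y2 (by rw [hX1, hY2, h.c12y]) (by rw [hX1, h.x1c]) (by rw [hX1, hE, h.ex1])
    (by rw [hY2, hE, h.ey2])
  have b21 : ⁅X2, Y1⁆ = 1 := hVW X2 Y1 (by rw [hX2, hY1, h.c21]) (by rw [hX2, h.x2c]) (by rw [hX2, hE, h.ex2])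
    (by rw [hY1, hE, h.ey1])
  have b22 : ⁅X2, Y2⁆ = 1 := hVW X2 Y2 (by rw [hX2, hY2, h.c22]) (by rw [hX2, h.x2c]) (by rw [hX2, hE, h.ex2])
    (by rw [hY2, hE, h.ey2])
  set w := ⁅X1, X2⁆ with hw
  have hw1 : σ w = 1 := by
    rw [hw, map_commutatorElement, commutatorElement_eq_one_iff_mul_comm, hX1, hX2, h.c12]
  have hw3 : w ^ 3 = 1 := comm_cube hc (by rw [hX1, hX2, h.c12]) (by rw [hX1, h.x1c])
  have bY : ⁅Y2, Y1⁻¹⁆ = w := comm_conj hc (N := N) (by rw [hX1, hX2, h.c12]) (by rw [hconj, hX1, hN, h.n1, hY2])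
    (by rw [hconj, hX2, hN, h.n2, map_inv, hY1])
  have bY' : ⁅Y2, Y1⁆ = w⁻¹ := by
    have h1 := comm_inv_right hc (X := Y2) (Y := Y1) (by rw [hY1, hY2, h.d12])
    rw [bY] at h1
    rw [h1, inv_inv]
  -- the subgroup
  let P := Pg x1 x2 y1 y2
  let H : Subgroup Γ := P.comap σ
  let Z : Subgroup Γ := zpowers w
  have hZn : Z.Normal := by
    constructor
    intro z hz g
    obtain ⟨k, rfl⟩ := mem_zpowers_iff.1 hz
    have h1 : Commute g w := hc w hw1 g
    rw [(h1.zpow_right k).eq, mul_inv_cancel_right]; exact hz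
  have hle : ⁅H, H⁆ ≤ Z := by
    -- work in the quotient
    let q := QuotientGroup.mk' Z
    have hqc : ∀ m, σ m = 1 → ∀ x, q x * q m = q m * q x := fun m hm x => by rw [← map_mul, ← map_mul, hc m hm x]
    have hq1 : ∀ {a b : Γ}, ⁅a, b⁆ ∈ Z → q a * q b = q b * q a := by
      intro a b hab
      have h1 : q ⁅a, b⁆ = 1 := (QuotientGroup.eq_one_iff _).2 hab
      rw [map_commutatorElement] at h1
      exact commutatorElement_eq_one_iff_mul_comm.1 h1
    have hsw : ∀ {a b : Γ}, ⁅a, b⁆ ∈ Z → ⁅b, a⁆ ∈ Z := by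
      intro a b hab
      rw [← commutatorElement_inv]; exact Z.inv_mem hab
    have hH : H ≤ closure ({X1, X2, Y1, Y2} ∪ (σ.ker : Set Γ)) := by
      intro x hx
      have hx1 : σ x ∈ closure {x1, x2, y1, y2} := hx
      have h1 : (closure ({X1, X2, Y1, Y2} : Set Γ)).map σ = closure {x1, x2, y1, y2} := by
        rw [MonoidHom.map_closure]
        congr 1
        simp only [Set.image_insert_eq, Set.image_singleton, hX1, hX2, hY1, hY2]
      rw [← h1] at hx1
      obtain ⟨y, hy, hyx⟩ := hx1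
      have h2 : y⁻¹ * x ∈ σ.ker := by
        rw [MonoidHom.mem_ker, map_mul, map_inv, hyx, inv_mul_cancel]
      have h3 := mul_mem (closure_mono (Set.subset_union_left (t := (σ.ker : Set Γ))) hy)
        (subset_closure (Or.inr h2) : y⁻¹ * x ∈ closure ({X1, X2, Y1, Y2} ∪ (σ.ker : Set Γ)))
      rwa [mul_inv_cancel_left] at h3
    have hcomm : ∀ a ∈ closure ({X1, X2, Y1, Y2} ∪ (σ.ker : Set Γ)),
        ∀ b ∈ closure ({X1, X2, Y1, Y2} ∪ (σ.ker : Set Γ)), q a * q b = q b * q a := by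
      have h1Z : (1 : Γ) ∈ Z := Z.one_mem
      have hwZ : w ∈ Z := mem_zpowers w
      have hcl : IsMulCommutative (closure (q '' ({X1, X2, Y1, Y2} ∪ (σ.ker : Set Γ)))) := by
        refine Subgroup.isMulCommutative_closure ?_
        have g1 : ∀ a ∈ ({X1, X2, Y1, Y2} : Set Γ), ∀ b ∈ ({X1, X2, Y1, Y2} : Set Γ), q a * q b = q b * q a := by
          have m11 : ⁅X1, Y1⁆ ∈ Z := by rw [b11]; exact h1Z
          have m12 : ⁅X1, Y2⁆ ∈ Z := by rw [b12]; exact h1Z
          have m21 : ⁅X2, Y1⁆ ∈ Z := by rw [b21]; exact h1Z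
          have m22 : ⁅X2, Y2⁆ ∈ Z := by rw [b22]; exact h1Z
          have mx : ⁅X1, X2⁆ ∈ Z := hwZ
          have my : ⁅Y2, Y1⁆ ∈ Z := by rw [bY']; exact Z.inv_mem hwZ
          rintro a (rfl | rfl | rfl | rfl) b (rfl | rfl | rfl | rfl)
          · rfl
          · exact hq1 mx
          · exact hq1 m11
          · exact hq1 m12
          · exact hq1 (hsw mx)
          · rfl
          · exact hq1 m21
          · exact hq1 m22
          · exact hq1 (hsw m11)
          · exact hq1 (hsw m21)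
          · rfl
          · exact hq1 (hsw my)
          · exact hq1 (hsw m12)
          · exact hq1 (hsw m22)
          · exact hq1 my
          · rfl
        rintro _ ⟨a, ha, rfl⟩ _ ⟨b, hb, rfl⟩
        rcases ha with ha | ha
        · rcases hb with hb | hb
          · exact g1 a ha b hb
          · exact hqc b hb a
        · exact (hqc a ha b).symm
      intro a ha b hb
      have ha' : q a ∈ closure (q '' ({X1, X2, Y1, Y2} ∪ (σ.ker : Set Γ))) := by
        rw [← MonoidHom.map_closure]; exact ⟨a, ha, rfl⟩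
      have hb' : q b ∈ closure (q '' ({X1, X2, Y1, Y2} ∪ (σ.ker : Set Γ))) := by
        rw [← MonoidHom.map_closure]; exact ⟨b, hb, rfl⟩
      exact congrArg Subtype.val (hcl.is_comm.comm ⟨q a, ha'⟩ ⟨q b, hb'⟩)
    rw [commutator_le]
    intro a ha b hb
    have h1 := hcomm a (hH ha) b (hH hb)
    rw [← commutatorElement_eq_one_iff_mul_comm, ← map_commutatorElement] at h1
    exact (QuotientGroup.eq_one_iff _).1 h1
  have hidx : H.index = P.index := Subgroup.index_comap_of_surjective P hσ.1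
  have : H.FiniteIndex := ⟨by rw [hidx]; exact FiniteIndex.index_ne_zero⟩
  refine ⟨w, hw3, fun z hz => ?_⟩
  have h1 := Stem.pow_index_mem_commutator H (hσ.2.1 hz) (hσ.2.2 hz)
  rw [hidx] at h1
  exact hle h1

/-- **the 3-part** -/
theorem Data.three [Finite Γ] [Finite G] {x1 x2 y1 y2 e n : G} (h : Data x1 x2 y1 y2 e n) {r : ℕ}
    (hG : Nat.card G = 81 * r) (hr : Nat.Coprime 3 r) (hσ : Cfsg.IsStemExtension σ) {k : ℕ}
    (hk : Nat.card σ.ker = 3 ^ k) : Nat.card σ.ker ∣ 3 := by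
  have : (Pg x1 x2 y1 y2).FiniteIndex := inferInstance
  obtain ⟨w, hw3, hw⟩ := h.bound hσ
  have hidx : (Pg x1 x2 y1 y2).index ∣ r := by
    have h1 := Subgroup.card_mul_index (Pg x1 x2 y1 y2)
    obtain ⟨s, hs⟩ := h.card
    rw [hG, hs, mul_assoc] at h1
    have h2 := Nat.eq_of_mul_eq_mul_left (by norm_num : 0 < 81) h1
    exact ⟨s, by rw [← h2, mul_comm]⟩
  have hcop : Nat.Coprime (Nat.card σ.ker) (Pg x1 x2 y1 y2).index := by
    rw [hk]
    exact (Nat.Coprime.pow_left k hr).coprime_dvd_right hidx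
  have hle : σ.ker ≤ zpowers w := by
    intro z hz
    have h2 : z ^ Nat.card σ.ker = 1 := by
      have h3 := pow_card_eq_one' (x := (⟨z, hz⟩ : σ.ker))
      exact congrArg Subtype.val h3
    have h4 : Nat.Coprime (orderOf z) (Pg x1 x2 y1 y2).index :=
      hcop.coprime_dvd_left (orderOf_dvd_of_pow_eq_one h2)
    have h5 : z ∈ zpowers (z ^ (Pg x1 x2 y1 y2).index) := by
      rw [mem_zpowers_pow_iff]
      exact h4.symm
    exact (zpowers_le.2 (hw z hz)) h5
  have h6 := Subgroup.card_dvd_of_le hle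
  rw [Nat.card_zpowers] at h6
  exact h6.trans (orderOf_dvd_of_pow_eq_one hw3)

end H40.ON3
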