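import Cfsg.Agent.Lib.H40.ON3A
import Cfsg.Agent.Lib.H40.ON3B

/-!
# The 3-part of a stem extension of the presented group ON has order at most three
-/

set_option autoImplicit false
set_option linter.all false
set_option maxRecDepth 10000

namespace H40.ON3

open Subgroup H35.TC H35.Net H35.ONMain H35
open H35.TCONA (Lt)

/-- value of a word in the presented group -/
def gw (w : List Lt) : Cfsg.Spor.ON := (w.map gP).prod

theorem gw_append (u v : List Lt) : gw (u ++ v) = gw u * gw v := by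
  rw [gw, List.map_append, List.prod_append]; rfl

theorem gw_one {w : List Lt} (h : (w.map NON.π).prod = 1) : gw w = 1 := by
  apply card_inj.2
  rw [map_one, gw, map_list_prod, List.map_map, ← h]
  congr 1
  apply List.map_congr_left
  intro x _
  exact hφ x

/-- inverse word -/
def iw (w : List Lt) : List Lt := (w.map TCONA.inv).reverse

theorem gw_iw (w : List Lt) : gw (iw w) = (gw w)⁻¹ := by
  induction w with
  | nil => simp [gw, iw]
  | cons x w ih =>
    have e : iw (x :: w) = iw w ++ [TCONA.inv x] := by simp [iw]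
    have e2 : gw (x :: w) = gP x * gw w := by rw [gw, List.map_cons, List.prod_cons]; rfl
    have e3 : gw [TCONA.inv x] = (gP x)⁻¹ := by
      rw [← hinvP, gw, List.map_cons, List.map_nil, List.prod_cons, List.prod_nil, mul_one]
    rw [e, gw_append, ih, e2, mul_inv_rev, e3]

/-- the words -/
def wx1 : List Lt := [.a, .b]
/-- the words -/
def wx2 : List Lt := [.a, .g, .b, .gi]
/-- the words -/
def wy1 : List Lt := [.f, .e]
/-- the words -/
def wy2 : List Lt := [.f, .g, .e, .gi]
/-- the words -/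
def we : List Lt := [.e]
/-- the words -/
def wn : List Lt := [.c, .b, .d, .c, .d, .e, .gi, .b, .c, .d, .gi, .b, .c, .d, .e, .d, .c, .g, .d, .b, .c, .gi, .e, .d,
  .b, .c, .d]

theorem comm_of {u v : List Lt} (h : gw (u ++ v ++ iw u ++ iw v) = 1) : gw u * gw v = gw v * gw u := by
  rw [gw_append, gw_append, gw_append, gw_iw, gw_iw] at h
  calc gw u * gw v = (gw u * gw v * (gw u)⁻¹ * (gw v)⁻¹) * (gw v * gw u) := by group
    _ = _ := by rw [h, one_mul]

theorem sqP' (x : Lt) (h : TCONA.mm x x = 1) : gP x * gP x = 1 := by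
  have := hpP x x
  rwa [h, pow_one] at this

theorem comP {x y : Lt} (hx : TCONA.mm x x = 1) (hy : TCONA.mm y y = 1) (h : TCONA.mm x y = 2) :
    gP x * gP y = gP y * gP x := by
  have h3 := hpP x y
  rw [h] at h3
  have e : (gP x * gP y)⁻¹ = gP x * gP y := inv_eq_of_mul_eq_one_left (by rw [← pow_two]; exact h3)
  rw [← e, mul_inv_rev, inv_eq_of_mul_eq_one_left (sqP' x hx), inv_eq_of_mul_eq_one_left (sqP' y hy)]

theorem gw2 (x y : Lt) : gw [x, y] = gP x * gP y := by simp [gw]

theorem card3 {x y : Lt} (h : TCONA.mm x y = 3) : (gw [x, y]) ^ 3 = 1 := by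
  have := hpP x y
  rw [h] at this
  rw [gw2]; exact this

theorem we_inv : (gw we)⁻¹ = gw we := by
  have : gw we = gP .e := by simp [gw, we]
  rw [this]
  exact inv_eq_of_mul_eq_one_left (sqP' .e rfl)

theorem x1_y1 : gw wx1 * gw wy1 = gw wy1 * gw wx1 := by
  rw [wx1, wy1, gw2, gw2]
  have h1 := comP (x := .a) (y := .f) rfl rfl rfl
  have h2 := comP (x := .a) (y := .e) rfl rfl rfl
  have h3 := comP (x := .b) (y := .f) rfl rfl rfl
  have h4 := comP (x := .b) (y := .e) rfl rfl rfl
  calc gP .a * gP .b * (gP .f * gP .e) = gP .a * (gP .b * gP .f) * gP .e := by group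
    _ = (gP .a * gP .f) * (gP .b * gP .e) := by rw [h3]; group
    _ = gP .f * (gP .a * gP .e) * gP .b := by rw [h1, h4]; group
    _ = gP .f * gP .e * (gP .a * gP .b) := by rw [h2]; group

theorem ex1' : (gw we)⁻¹ * gw wx1 * gw we = gw wx1 := by
  rw [we_inv]
  have e : gw we = gP .e := by simp [gw, we]
  rw [e, wx1, gw2]
  have h2 := comP (x := .a) (y := .e) rfl rfl rfl
  have h4 := comP (x := .b) (y := .e) rfl rfl rfl
  calc gP .e * (gP .a * gP .b) * gP .e = gP .e * gP .a * (gP .b * gP .e) := by group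
    _ = gP .e * (gP .a * gP .e) * gP .b := by rw [h4]; group
    _ = (gP .e * gP .e) * gP .a * gP .b := by rw [h2]; group
    _ = gP .a * gP .b := by rw [sqP' .e rfl, one_mul]

theorem ey1' : (gw we)⁻¹ * gw wy1 * gw we = (gw wy1)⁻¹ := by
  rw [we_inv]
  have e : gw we = gP .e := by simp [gw, we]
  rw [e, wy1, gw2]
  have h1 := sqP' .e rfl
  have h2 := sqP' .f rfl
  have h3 : (gP .e)⁻¹ = gP .e := inv_eq_of_mul_eq_one_left h1
  have h4 : (gP .f)⁻¹ = gP .f := inv_eq_of_mul_eq_one_left h2
  rw [mul_inv_rev, h3, h4]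
  calc gP .e * (gP .f * gP .e) * gP .e = gP .e * gP .f * (gP .e * gP .e) := by group
    _ = gP .e * gP .f := by rw [h1, mul_one]

/-- nontriviality by the image of a set of points -/
theorem ne_of_chk {u v : List Lt} {W : ℕ} (h : Nat.beq (appF NON.net (u ++ iw v) W) W = false) : gw u ≠ gw v := by
  intro h1
  have h2 : gw (u ++ iw v) = 1 := by rw [gw_append, gw_iw, h1, mul_inv_cancel]
  have h3 : ((u ++ iw v).map NON.π).prod = 1 := by
    have h4 := congrArg φ h2
    rw [map_one, gw, map_list_prod, List.map_map] at h4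
    rw [← h4]
    congr 1
    apply List.map_congr_left
    intro x _
    exact (hφ x).symm
  have h5 := app_BP NON.hbp (u ++ iw v)
  rw [h3] at h5
  have h6 : appF NON.net (u ++ iw v) W = W := by
    rw [appF_eq]
    apply Nat.eq_of_testBit_eq
    intro b
    rw [h5.bit]; rfl
  rw [h6] at h
  exact absurd (Nat.beq_refl W) (by rw [h]; decide)

theorem ne1 : gw wx1 ≠ gw [] := ne_of_chk (W := Nat.shiftLeft 1 5000) (by decide +kernel)
theorem ne2 : gw wx2 ≠ gw [] := ne_of_chk (W := Nat.shiftLeft 1 5000) (by decide +kernel)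
theorem ne3 : gw wx2 ≠ gw wx1 := ne_of_chk (W := Nat.shiftLeft 1 5000) (by decide +kernel)
theorem ne4 : gw wx2 ≠ gw (iw wx1) := ne_of_chk (W := Nat.shiftLeft 1 5000) (by decide +kernel)

theorem cube {w : List Lt} (h : ((w ++ w ++ w).map NON.π).prod = 1) : gw w ^ 3 = 1 := by
  have h1 := gw_one h
  rw [gw_append, gw_append] at h1
  rw [pow_succ, pow_two]; exact h1

theorem conj_of {n x y : List Lt} (h : ((iw n ++ x ++ n ++ iw y).map NON.π).prod = 1) :
    (gw n)⁻¹ * gw x * gw n = gw y := by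
  have h1 := gw_one h
  rw [gw_append, gw_append, gw_append, gw_iw, gw_iw] at h1
  exact mul_inv_eq_one.1 h1

theorem y2c : gw wy2 ^ 3 = 1 := by
  have h1 : (gw wn)⁻¹ * gw wx1 * gw wn = gw wy2 := conj_of n1
  rw [← h1]
  have h2 := card3 (x := .a) (y := .b) rfl
  have h3 : (gw wn)⁻¹ * gw wx1 * gw wn = (gw wn)⁻¹ * gw wx1 * (gw wn)⁻¹⁻¹ := by group
  rw [h3, conj_pow]
  have h4 : gw wx1 ^ 3 = 1 := h2
  rw [h4]; group

theorem data : Data (gw wx1) (gw wx2) (gw wy1) (gw wy2) (gw we) (gw wn) where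
  c12 := comm_of (gw_one c12)
  d12 := comm_of (gw_one d12)
  c11 := x1_y1
  c12y := comm_of (gw_one c12y)
  c21 := comm_of (gw_one c21y)
  c22 := comm_of (gw_one c22y)
  x1c := card3 rfl
  x2c := cube x2c
  y1c := card3 rfl
  y2c := y2c
  ex1 := ex1'
  ex2 := by rw [we_inv]; have h := conj_of (n := we) (x := wx2) (y := wx2) ex2; rwa [we_inv] at h
  ey1 := ey1'
  ey2 := by
    have h := conj_of (n := we) (x := wy2) (y := iw wy2) ey2
    rw [gw_iw] at h
    exact h
  n1 := conj_of n1
  n2 := by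
    have h := conj_of (n := wn) (x := wx2) (y := iw wy1) n2
    rw [gw_iw] at h
    exact h
  x1n := ne1
  x2n := ne2
  x12 := ne3
  x12' := by rw [← gw_iw]; exact ne4

/-- **ON-3**: the kernel of a stem extension of ON which is a 3-group has order at most three -/
theorem three {Γ : Type} [Group Γ] [Finite Γ] {σ : Γ →* Cfsg.Spor.ON} (hσ : Cfsg.IsStemExtension σ) {k : ℕ}
    (hk : Nat.card σ.ker = 3 ^ k) : Nat.card σ.ker ∣ 3 := by
  have := fin
  exact data.three (r := 5689080320) (by rw [card_inj.1]) (by norm_num) hσ hk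

end H40.ON3
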