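import Cfsg.Agent.Lib.H35.ONMain
import Cfsg.Agent.Lib.H35.SegKit

/-!
# A Sylow 3-subgroup of the presented group ON: relations
-/

set_option autoImplicit false
set_option linter.all false
set_option maxRecDepth 100000
set_option Elab.async false

namespace H40.ON3

open H35.TC H35.Net H35.ONMain H35
open H35.TCONA (Lt)

theorem x2c_0 : chkW NON.net 17 [.a, .g, .b, .gi, .a, .g, .b, .gi, .a, .g, .b, .gi] 1 0 7 = true := by decide +kernel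
theorem x2c_7 : chkW NON.net 17 [.a, .g, .b, .gi, .a, .g, .b, .gi, .a, .g, .b, .gi] 1 7 7 = true := by decide +kernel
theorem x2c_14 : chkW NON.net 17 [.a, .g, .b, .gi, .a, .g, .b, .gi, .a, .g, .b, .gi] 1 14 3 = true := by decide +kernel
theorem x2c_c : chkW NON.net 17 [.a, .g, .b, .gi, .a, .g, .b, .gi, .a, .g, .b, .gi] 1 0 17 = true := (chkW_glue (a := 14) (b := 3) (chkW_glue (a := 7) (b := 7) x2c_0 x2c_7) x2c_14)
/-- relator -/
theorem x2c : (([.a, .g, .b, .gi, .a, .g, .b, .gi, .a, .g, .b, .gi] : List Lt).map NON.π).prod = 1 := by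
  have h := pow_eq_one (w := [.a, .g, .b, .gi, .a, .g, .b, .gi, .a, .g, .b, .gi]) (n := 1) NON.hbp (fun r hr => chkW_spec x2c_c r (Nat.zero_le _) (by simpa using hr))
  rwa [pow_one] at h
theorem c12_0 : chkW NON.net 17 [.a, .b, .a, .g, .b, .gi, .b, .a, .g, .b, .gi, .a] 1 0 7 = true := by decide +kernel
theorem c12_7 : chkW NON.net 17 [.a, .b, .a, .g, .b, .gi, .b, .a, .g, .b, .gi, .a] 1 7 7 = true := by decide +kernel
theorem c12_14 : chkW NON.net 17 [.a, .b, .a, .g, .b, .gi, .b, .a, .g, .b, .gi, .a] 1 14 3 = true := by decide +kernel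
theorem c12_c : chkW NON.net 17 [.a, .b, .a, .g, .b, .gi, .b, .a, .g, .b, .gi, .a] 1 0 17 = true := (chkW_glue (a := 14) (b := 3) (chkW_glue (a := 7) (b := 7) c12_0 c12_7) c12_14)
/-- relator -/
theorem c12 : (([.a, .b, .a, .g, .b, .gi, .b, .a, .g, .b, .gi, .a] : List Lt).map NON.π).prod = 1 := by
  have h := pow_eq_one (w := [.a, .b, .a, .g, .b, .gi, .b, .a, .g, .b, .gi, .a]) (n := 1) NON.hbp (fun r hr => chkW_spec c12_c r (Nat.zero_le _) (by simpa using hr))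
  rwa [pow_one] at h
theorem d12_0 : chkW NON.net 17 [.f, .e, .f, .g, .e, .gi, .e, .f, .g, .e, .gi, .f] 1 0 7 = true := by decide +kernel
theorem d12_7 : chkW NON.net 17 [.f, .e, .f, .g, .e, .gi, .e, .f, .g, .e, .gi, .f] 1 7 7 = true := by decide +kernel
theorem d12_14 : chkW NON.net 17 [.f, .e, .f, .g, .e, .gi, .e, .f, .g, .e, .gi, .f] 1 14 3 = true := by decide +kernel
theorem d12_c : chkW NON.net 17 [.f, .e, .f, .g, .e, .gi, .e, .f, .g, .e, .gi, .f] 1 0 17 = true := (chkW_glue (a := 14) (b := 3) (chkW_glue (a := 7) (b := 7) d12_0 d12_7) d12_14)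
/-- relator -/
theorem d12 : (([.f, .e, .f, .g, .e, .gi, .e, .f, .g, .e, .gi, .f] : List Lt).map NON.π).prod = 1 := by
  have h := pow_eq_one (w := [.f, .e, .f, .g, .e, .gi, .e, .f, .g, .e, .gi, .f]) (n := 1) NON.hbp (fun r hr => chkW_spec d12_c r (Nat.zero_le _) (by simpa using hr))
  rwa [pow_one] at h
theorem c12y_0 : chkW NON.net 17 [.a, .b, .f, .g, .e, .gi, .b, .a, .g, .e, .gi, .f] 1 0 7 = true := by decide +kernel
theorem c12y_7 : chkW NON.net 17 [.a, .b, .f, .g, .e, .gi, .b, .a, .g, .e, .gi, .f] 1 7 7 = true := by decide +kernel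
theorem c12y_14 : chkW NON.net 17 [.a, .b, .f, .g, .e, .gi, .b, .a, .g, .e, .gi, .f] 1 14 3 = true := by decide +kernel
theorem c12y_c : chkW NON.net 17 [.a, .b, .f, .g, .e, .gi, .b, .a, .g, .e, .gi, .f] 1 0 17 = true := (chkW_glue (a := 14) (b := 3) (chkW_glue (a := 7) (b := 7) c12y_0 c12y_7) c12y_14)
/-- relator -/
theorem c12y : (([.a, .b, .f, .g, .e, .gi, .b, .a, .g, .e, .gi, .f] : List Lt).map NON.π).prod = 1 := by
  have h := pow_eq_one (w := [.a, .b, .f, .g, .e, .gi, .b, .a, .g, .e, .gi, .f]) (n := 1) NON.hbp (fun r hr => chkW_spec c12y_c r (Nat.zero_le _) (by simpa using hr))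
  rwa [pow_one] at h
theorem c21y_0 : chkW NON.net 17 [.a, .g, .b, .gi, .f, .e, .g, .b, .gi, .a, .e, .f] 1 0 7 = true := by decide +kernel
theorem c21y_7 : chkW NON.net 17 [.a, .g, .b, .gi, .f, .e, .g, .b, .gi, .a, .e, .f] 1 7 7 = true := by decide +kernel
theorem c21y_14 : chkW NON.net 17 [.a, .g, .b, .gi, .f, .e, .g, .b, .gi, .a, .e, .f] 1 14 3 = true := by decide +kernel
theorem c21y_c : chkW NON.net 17 [.a, .g, .b, .gi, .f, .e, .g, .b, .gi, .a, .e, .f] 1 0 17 = true := (chkW_glue (a := 14) (b := 3) (chkW_glue (a := 7) (b := 7) c21y_0 c21y_7) c21y_14)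
/-- relator -/
theorem c21y : (([.a, .g, .b, .gi, .f, .e, .g, .b, .gi, .a, .e, .f] : List Lt).map NON.π).prod = 1 := by
  have h := pow_eq_one (w := [.a, .g, .b, .gi, .f, .e, .g, .b, .gi, .a, .e, .f]) (n := 1) NON.hbp (fun r hr => chkW_spec c21y_c r (Nat.zero_le _) (by simpa using hr))
  rwa [pow_one] at h
theorem c22y_0 : chkW NON.net 17 [.a, .g, .b, .gi, .f, .g, .e, .gi, .g, .b, .gi, .a, .g, .e, .gi, .f] 1 0 5 = true := by decide +kernel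
theorem c22y_5 : chkW NON.net 17 [.a, .g, .b, .gi, .f, .g, .e, .gi, .g, .b, .gi, .a, .g, .e, .gi, .f] 1 5 5 = true := by decide +kernel
theorem c22y_10 : chkW NON.net 17 [.a, .g, .b, .gi, .f, .g, .e, .gi, .g, .b, .gi, .a, .g, .e, .gi, .f] 1 10 5 = true := by decide +kernel
theorem c22y_15 : chkW NON.net 17 [.a, .g, .b, .gi, .f, .g, .e, .gi, .g, .b, .gi, .a, .g, .e, .gi, .f] 1 15 2 = true := by decide +kernel
theorem c22y_c : chkW NON.net 17 [.a, .g, .b, .gi, .f, .g, .e, .gi, .g, .b, .gi, .a, .g, .e, .gi, .f] 1 0 17 = true := (chkW_glue (a := 15) (b := 2) (chkW_glue (a := 10) (b := 5) (chkW_glue (a := 5) (b := 5) c22y_0 c22y_5) c22y_10) c22y_15)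
/-- relator -/
theorem c22y : (([.a, .g, .b, .gi, .f, .g, .e, .gi, .g, .b, .gi, .a, .g, .e, .gi, .f] : List Lt).map NON.π).prod = 1 := by
  have h := pow_eq_one (w := [.a, .g, .b, .gi, .f, .g, .e, .gi, .g, .b, .gi, .a, .g, .e, .gi, .f]) (n := 1) NON.hbp (fun r hr => chkW_spec c22y_c r (Nat.zero_le _) (by simpa using hr))
  rwa [pow_one] at h
theorem ex2_0 : chkW NON.net 17 [.e, .a, .g, .b, .gi, .e, .g, .b, .gi, .a] 1 0 9 = true := by decide +kernel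
theorem ex2_9 : chkW NON.net 17 [.e, .a, .g, .b, .gi, .e, .g, .b, .gi, .a] 1 9 8 = true := by decide +kernel
theorem ex2_c : chkW NON.net 17 [.e, .a, .g, .b, .gi, .e, .g, .b, .gi, .a] 1 0 17 = true := (chkW_glue (a := 9) (b := 8) ex2_0 ex2_9)
/-- relator -/
theorem ex2 : (([.e, .a, .g, .b, .gi, .e, .g, .b, .gi, .a] : List Lt).map NON.π).prod = 1 := by
  have h := pow_eq_one (w := [.e, .a, .g, .b, .gi, .e, .g, .b, .gi, .a]) (n := 1) NON.hbp (fun r hr => chkW_spec ex2_c r (Nat.zero_le _) (by simpa using hr))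
  rwa [pow_one] at h
theorem ey2_0 : chkW NON.net 17 [.e, .f, .g, .e, .gi, .e, .f, .g, .e, .gi] 1 0 9 = true := by decide +kernel
theorem ey2_9 : chkW NON.net 17 [.e, .f, .g, .e, .gi, .e, .f, .g, .e, .gi] 1 9 8 = true := by decide +kernel
theorem ey2_c : chkW NON.net 17 [.e, .f, .g, .e, .gi, .e, .f, .g, .e, .gi] 1 0 17 = true := (chkW_glue (a := 9) (b := 8) ey2_0 ey2_9)
/-- relator -/
theorem ey2 : (([.e, .f, .g, .e, .gi, .e, .f, .g, .e, .gi] : List Lt).map NON.π).prod = 1 := by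
  have h := pow_eq_one (w := [.e, .f, .g, .e, .gi, .e, .f, .g, .e, .gi]) (n := 1) NON.hbp (fun r hr => chkW_spec ey2_c r (Nat.zero_le _) (by simpa using hr))
  rwa [pow_one] at h
theorem n1_0 : chkW NON.net 17 [.d, .c, .b, .d, .e, .g, .c, .b, .d, .gi, .c, .d, .e, .d, .c, .b, .g, .d, .c, .b, .g, .e, .d, .c, .d, .b, .c, .a, .b, .c, .b, .d, .c, .d, .e, .gi, .b, .c, .d, .gi, .b, .c, .d, .e, .d, .c, .g, .d, .b, .c, .gi, .e, .d, .b, .c, .d, .g, .e, .gi, .f] 1 0 1 = true := by decide +kernel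
theorem n1_1 : chkW NON.net 17 [.d, .c, .b, .d, .e, .g, .c, .b, .d, .gi, .c, .d, .e, .d, .c, .b, .g, .d, .c, .b, .g, .e, .d, .c, .d, .b, .c, .a, .b, .c, .b, .d, .c, .d, .e, .gi, .b, .c, .d, .gi, .b, .c, .d, .e, .d, .c, .g, .d, .b, .c, .gi, .e, .d, .b, .c, .d, .g, .e, .gi, .f] 1 1 1 = true := by decide +kernel
theorem n1_2 : chkW NON.net 17 [.d, .c, .b, .d, .e, .g, .c, .b, .d, .gi, .c, .d, .e, .d, .c, .b, .g, .d, .c, .b, .g, .e, .d, .c, .d, .b, .c, .a, .b, .c, .b, .d, .c, .d, .e, .gi, .b, .c, .d, .gi, .b, .c, .d, .e, .d, .c, .g, .d, .b, .c, .gi, .e, .d, .b, .c, .d, .g, .e, .gi, .f] 1 2 1 = true := by decide +kernel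
theorem n1_3 : chkW NON.net 17 [.d, .c, .b, .d, .e, .g, .c, .b, .d, .gi, .c, .d, .e, .d, .c, .b, .g, .d, .c, .b, .g, .e, .d, .c, .d, .b, .c, .a, .b, .c, .b, .d, .c, .d, .e, .gi, .b, .c, .d, .gi, .b, .c, .d, .e, .d, .c, .g, .d, .b, .c, .gi, .e, .d, .b, .c, .d, .g, .e, .gi, .f] 1 3 1 = true := by decide +kernel
theorem n1_4 : chkW NON.net 17 [.d, .c, .b, .d, .e, .g, .c, .b, .d, .gi, .c, .d, .e, .d, .c, .b, .g, .d, .c, .b, .g, .e, .d, .c, .d, .b, .c, .a, .b, .c, .b, .d, .c, .d, .e, .gi, .b, .c, .d, .gi, .b, .c, .d, .e, .d, .c, .g, .d, .b, .c, .gi, .e, .d, .b, .c, .d, .g, .e, .gi, .f] 1 4 1 = true := by decide +kernel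
theorem n1_5 : chkW NON.net 17 [.d, .c, .b, .d, .e, .g, .c, .b, .d, .gi, .c, .d, .e, .d, .c, .b, .g, .d, .c, .b, .g, .e, .d, .c, .d, .b, .c, .a, .b, .c, .b, .d, .c, .d, .e, .gi, .b, .c, .d, .gi, .b, .c, .d, .e, .d, .c, .g, .d, .b, .c, .gi, .e, .d, .b, .c, .d, .g, .e, .gi, .f] 1 5 1 = true := by decide +kernel
theorem n1_6 : chkW NON.net 17 [.d, .c, .b, .d, .e, .g, .c, .b, .d, .gi, .c, .d, .e, .d, .c, .b, .g, .d, .c, .b, .g, .e, .d, .c, .d, .b, .c, .a, .b, .c, .b, .d, .c, .d, .e, .gi, .b, .c, .d, .gi, .b, .c, .d, .e, .d, .c, .g, .d, .b, .c, .gi, .e, .d, .b, .c, .d, .g, .e, .gi, .f] 1 6 1 = true := by decide +kernel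
theorem n1_7 : chkW NON.net 17 [.d, .c, .b, .d, .e, .g, .c, .b, .d, .gi, .c, .d, .e, .d, .c, .b, .g, .d, .c, .b, .g, .e, .d, .c, .d, .b, .c, .a, .b, .c, .b, .d, .c, .d, .e, .gi, .b, .c, .d, .gi, .b, .c, .d, .e, .d, .c, .g, .d, .b, .c, .gi, .e, .d, .b, .c, .d, .g, .e, .gi, .f] 1 7 1 = true := by decide +kernel
theorem n1_8 : chkW NON.net 17 [.d, .c, .b, .d, .e, .g, .c, .b, .d, .gi, .c, .d, .e, .d, .c, .b, .g, .d, .c, .b, .g, .e, .d, .c, .d, .b, .c, .a, .b, .c, .b, .d, .c, .d, .e, .gi, .b, .c, .d, .gi, .b, .c, .d, .e, .d, .c, .g, .d, .b, .c, .gi, .e, .d, .b, .c, .d, .g, .e, .gi, .f] 1 8 1 = true := by decide +kernel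
theorem n1_9 : chkW NON.net 17 [.d, .c, .b, .d, .e, .g, .c, .b, .d, .gi, .c, .d, .e, .d, .c, .b, .g, .d, .c, .b, .g, .e, .d, .c, .d, .b, .c, .a, .b, .c, .b, .d, .c, .d, .e, .gi, .b, .c, .d, .gi, .b, .c, .d, .e, .d, .c, .g, .d, .b, .c, .gi, .e, .d, .b, .c, .d, .g, .e, .gi, .f] 1 9 1 = true := by decide +kernel
theorem n1_10 : chkW NON.net 17 [.d, .c, .b, .d, .e, .g, .c, .b, .d, .gi, .c, .d, .e, .d, .c, .b, .g, .d, .c, .b, .g, .e, .d, .c, .d, .b, .c, .a, .b, .c, .b, .d, .c, .d, .e, .gi, .b, .c, .d, .gi, .b, .c, .d, .e, .d, .c, .g, .d, .b, .c, .gi, .e, .d, .b, .c, .d, .g, .e, .gi, .f] 1 10 1 = true := by decide +kernel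
theorem n1_11 : chkW NON.net 17 [.d, .c, .b, .d, .e, .g, .c, .b, .d, .gi, .c, .d, .e, .d, .c, .b, .g, .d, .c, .b, .g, .e, .d, .c, .d, .b, .c, .a, .b, .c, .b, .d, .c, .d, .e, .gi, .b, .c, .d, .gi, .b, .c, .d, .e, .d, .c, .g, .d, .b, .c, .gi, .e, .d, .b, .c, .d, .g, .e, .gi, .f] 1 11 1 = true := by decide +kernel
theorem n1_12 : chkW NON.net 17 [.d, .c, .b, .d, .e, .g, .c, .b, .d, .gi, .c, .d, .e, .d, .c, .b, .g, .d, .c, .b, .g, .e, .d, .c, .d, .b, .c, .a, .b, .c, .b, .d, .c, .d, .e, .gi, .b, .c, .d, .gi, .b, .c, .d, .e, .d, .c, .g, .d, .b, .c, .gi, .e, .d, .b, .c, .d, .g, .e, .gi, .f] 1 12 1 = true := by decide +kernel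
theorem n1_13 : chkW NON.net 17 [.d, .c, .b, .d, .e, .g, .c, .b, .d, .gi, .c, .d, .e, .d, .c, .b, .g, .d, .c, .b, .g, .e, .d, .c, .d, .b, .c, .a, .b, .c, .b, .d, .c, .d, .e, .gi, .b, .c, .d, .gi, .b, .c, .d, .e, .d, .c, .g, .d, .b, .c, .gi, .e, .d, .b, .c, .d, .g, .e, .gi, .f] 1 13 1 = true := by decide +kernel
theorem n1_14 : chkW NON.net 17 [.d, .c, .b, .d, .e, .g, .c, .b, .d, .gi, .c, .d, .e, .d, .c, .b, .g, .d, .c, .b, .g, .e, .d, .c, .d, .b, .c, .a, .b, .c, .b, .d, .c, .d, .e, .gi, .b, .c, .d, .gi, .b, .c, .d, .e, .d, .c, .g, .d, .b, .c, .gi, .e, .d, .b, .c, .d, .g, .e, .gi, .f] 1 14 1 = true := by decide +kernel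
theorem n1_15 : chkW NON.net 17 [.d, .c, .b, .d, .e, .g, .c, .b, .d, .gi, .c, .d, .e, .d, .c, .b, .g, .d, .c, .b, .g, .e, .d, .c, .d, .b, .c, .a, .b, .c, .b, .d, .c, .d, .e, .gi, .b, .c, .d, .gi, .b, .c, .d, .e, .d, .c, .g, .d, .b, .c, .gi, .e, .d, .b, .c, .d, .g, .e, .gi, .f] 1 15 1 = true := by decide +kernel
theorem n1_16 : chkW NON.net 17 [.d, .c, .b, .d, .e, .g, .c, .b, .d, .gi, .c, .d, .e, .d, .c, .b, .g, .d, .c, .b, .g, .e, .d, .c, .d, .b, .c, .a, .b, .c, .b, .d, .c, .d, .e, .gi, .b, .c, .d, .gi, .b, .c, .d, .e, .d, .c, .g, .d, .b, .c, .gi, .e, .d, .b, .c, .d, .g, .e, .gi, .f] 1 16 1 = true := by decide +kernel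
theorem n1_c : chkW NON.net 17 [.d, .c, .b, .d, .e, .g, .c, .b, .d, .gi, .c, .d, .e, .d, .c, .b, .g, .d, .c, .b, .g, .e, .d, .c, .d, .b, .c, .a, .b, .c, .b, .d, .c, .d, .e, .gi, .b, .c, .d, .gi, .b, .c, .d, .e, .d, .c, .g, .d, .b, .c, .gi, .e, .d, .b, .c, .d, .g, .e, .gi, .f] 1 0 17 = true := (chkW_glue (a := 16) (b := 1) (chkW_glue (a := 15) (b := 1) (chkW_glue (a := 14) (b := 1) (chkW_glue (a := 13) (b := 1) (chkW_glue (a := 12) (b := 1) (chkW_glue (a := 11) (b := 1) (chkW_glue (a := 10) (b := 1) (chkW_glue (a := 9) (b := 1) (chkW_glue (a := 8) (b := 1) (chkW_glue (a := 7) (b := 1) (chkW_glue (a := 6) (b := 1) (chkW_glue (a := 5) (b := 1) (chkW_glue (a := 4) (b := 1) (chkW_glue (a := 3) (b := 1) (chkW_glue (a := 2) (b := 1) (chkW_glue (a := 1) (b := 1) n1_0 n1_1) n1_2) n1_3) n1_4) n1_5) n1_6) n1_7) n1_8) n1_9) n1_10) n1_11) n1_12) n1_13) n1_14) n1_15) n1_16)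
/-- relator -/
theorem n1 : (([.d, .c, .b, .d, .e, .g, .c, .b, .d, .gi, .c, .d, .e, .d, .c, .b, .g, .d, .c, .b, .g, .e, .d, .c, .d, .b, .c, .a, .b, .c, .b, .d, .c, .d, .e, .gi, .b, .c, .d, .gi, .b, .c, .d, .e, .d, .c, .g, .d, .b, .c, .gi, .e, .d, .b, .c, .d, .g, .e, .gi, .f] : List Lt).map NON.π).prod = 1 := by
  have h := pow_eq_one (w := [.d, .c, .b, .d, .e, .g, .c, .b, .d, .gi, .c, .d, .e, .d, .c, .b, .g, .d, .c, .b, .g, .e, .d, .c, .d, .b, .c, .a, .b, .c, .b, .d, .c, .d, .e, .gi, .b, .c, .d, .gi, .b, .c, .d, .e, .d, .c, .g, .d, .b, .c, .gi, .e, .d, .b, .c, .d, .g, .e, .gi, .f]) (n := 1) NON.hbp (fun r hr => chkW_spec n1_c r (Nat.zero_le _) (by simpa using hr))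
  rwa [pow_one] at h
theorem n2_0 : chkW NON.net 17 [.d, .c, .b, .d, .e, .g, .c, .b, .d, .gi, .c, .d, .e, .d, .c, .b, .g, .d, .c, .b, .g, .e, .d, .c, .d, .b, .c, .a, .g, .b, .gi, .c, .b, .d, .c, .d, .e, .gi, .b, .c, .d, .gi, .b, .c, .d, .e, .d, .c, .g, .d, .b, .c, .gi, .e, .d, .b, .c, .d, .f, .e] 1 0 1 = true := by decide +kernel
theorem n2_1 : chkW NON.net 17 [.d, .c, .b, .d, .e, .g, .c, .b, .d, .gi, .c, .d, .e, .d, .c, .b, .g, .d, .c, .b, .g, .e, .d, .c, .d, .b, .c, .a, .g, .b, .gi, .c, .b, .d, .c, .d, .e, .gi, .b, .c, .d, .gi, .b, .c, .d, .e, .d, .c, .g, .d, .b, .c, .gi, .e, .d, .b, .c, .d, .f, .e] 1 1 1 = true := by decide +kernel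
theorem n2_2 : chkW NON.net 17 [.d, .c, .b, .d, .e, .g, .c, .b, .d, .gi, .c, .d, .e, .d, .c, .b, .g, .d, .c, .b, .g, .e, .d, .c, .d, .b, .c, .a, .g, .b, .gi, .c, .b, .d, .c, .d, .e, .gi, .b, .c, .d, .gi, .b, .c, .d, .e, .d, .c, .g, .d, .b, .c, .gi, .e, .d, .b, .c, .d, .f, .e] 1 2 1 = true := by decide +kernel
theorem n2_3 : chkW NON.net 17 [.d, .c, .b, .d, .e, .g, .c, .b, .d, .gi, .c, .d, .e, .d, .c, .b, .g, .d, .c, .b, .g, .e, .d, .c, .d, .b, .c, .a, .g, .b, .gi, .c, .b, .d, .c, .d, .e, .gi, .b, .c, .d, .gi, .b, .c, .d, .e, .d, .c, .g, .d, .b, .c, .gi, .e, .d, .b, .c, .d, .f, .e] 1 3 1 = true := by decide +kernel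
theorem n2_4 : chkW NON.net 17 [.d, .c, .b, .d, .e, .g, .c, .b, .d, .gi, .c, .d, .e, .d, .c, .b, .g, .d, .c, .b, .g, .e, .d, .c, .d, .b, .c, .a, .g, .b, .gi, .c, .b, .d, .c, .d, .e, .gi, .b, .c, .d, .gi, .b, .c, .d, .e, .d, .c, .g, .d, .b, .c, .gi, .e, .d, .b, .c, .d, .f, .e] 1 4 1 = true := by decide +kernel
theorem n2_5 : chkW NON.net 17 [.d, .c, .b, .d, .e, .g, .c, .b, .d, .gi, .c, .d, .e, .d, .c, .b, .g, .d, .c, .b, .g, .e, .d, .c, .d, .b, .c, .a, .g, .b, .gi, .c, .b, .d, .c, .d, .e, .gi, .b, .c, .d, .gi, .b, .c, .d, .e, .d, .c, .g, .d, .b, .c, .gi, .e, .d, .b, .c, .d, .f, .e] 1 5 1 = true := by decide +kernel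
theorem n2_6 : chkW NON.net 17 [.d, .c, .b, .d, .e, .g, .c, .b, .d, .gi, .c, .d, .e, .d, .c, .b, .g, .d, .c, .b, .g, .e, .d, .c, .d, .b, .c, .a, .g, .b, .gi, .c, .b, .d, .c, .d, .e, .gi, .b, .c, .d, .gi, .b, .c, .d, .e, .d, .c, .g, .d, .b, .c, .gi, .e, .d, .b, .c, .d, .f, .e] 1 6 1 = true := by decide +kernel
theorem n2_7 : chkW NON.net 17 [.d, .c, .b, .d, .e, .g, .c, .b, .d, .gi, .c, .d, .e, .d, .c, .b, .g, .d, .c, .b, .g, .e, .d, .c, .d, .b, .c, .a, .g, .b, .gi, .c, .b, .d, .c, .d, .e, .gi, .b, .c, .d, .gi, .b, .c, .d, .e, .d, .c, .g, .d, .b, .c, .gi, .e, .d, .b, .c, .d, .f, .e] 1 7 1 = true := by decide +kernel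
theorem n2_8 : chkW NON.net 17 [.d, .c, .b, .d, .e, .g, .c, .b, .d, .gi, .c, .d, .e, .d, .c, .b, .g, .d, .c, .b, .g, .e, .d, .c, .d, .b, .c, .a, .g, .b, .gi, .c, .b, .d, .c, .d, .e, .gi, .b, .c, .d, .gi, .b, .c, .d, .e, .d, .c, .g, .d, .b, .c, .gi, .e, .d, .b, .c, .d, .f, .e] 1 8 1 = true := by decide +kernel
theorem n2_9 : chkW NON.net 17 [.d, .c, .b, .d, .e, .g, .c, .b, .d, .gi, .c, .d, .e, .d, .c, .b, .g, .d, .c, .b, .g, .e, .d, .c, .d, .b, .c, .a, .g, .b, .gi, .c, .b, .d, .c, .d, .e, .gi, .b, .c, .d, .gi, .b, .c, .d, .e, .d, .c, .g, .d, .b, .c, .gi, .e, .d, .b, .c, .d, .f, .e] 1 9 1 = true := by decide +kernel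
theorem n2_10 : chkW NON.net 17 [.d, .c, .b, .d, .e, .g, .c, .b, .d, .gi, .c, .d, .e, .d, .c, .b, .g, .d, .c, .b, .g, .e, .d, .c, .d, .b, .c, .a, .g, .b, .gi, .c, .b, .d, .c, .d, .e, .gi, .b, .c, .d, .gi, .b, .c, .d, .e, .d, .c, .g, .d, .b, .c, .gi, .e, .d, .b, .c, .d, .f, .e] 1 10 1 = true := by decide +kernel
theorem n2_11 : chkW NON.net 17 [.d, .c, .b, .d, .e, .g, .c, .b, .d, .gi, .c, .d, .e, .d, .c, .b, .g, .d, .c, .b, .g, .e, .d, .c, .d, .b, .c, .a, .g, .b, .gi, .c, .b, .d, .c, .d, .e, .gi, .b, .c, .d, .gi, .b, .c, .d, .e, .d, .c, .g, .d, .b, .c, .gi, .e, .d, .b, .c, .d, .f, .e] 1 11 1 = true := by decide +kernel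
theorem n2_12 : chkW NON.net 17 [.d, .c, .b, .d, .e, .g, .c, .b, .d, .gi, .c, .d, .e, .d, .c, .b, .g, .d, .c, .b, .g, .e, .d, .c, .d, .b, .c, .a, .g, .b, .gi, .c, .b, .d, .c, .d, .e, .gi, .b, .c, .d, .gi, .b, .c, .d, .e, .d, .c, .g, .d, .b, .c, .gi, .e, .d, .b, .c, .d, .f, .e] 1 12 1 = true := by decide +kernel
theorem n2_13 : chkW NON.net 17 [.d, .c, .b, .d, .e, .g, .c, .b, .d, .gi, .c, .d, .e, .d, .c, .b, .g, .d, .c, .b, .g, .e, .d, .c, .d, .b, .c, .a, .g, .b, .gi, .c, .b, .d, .c, .d, .e, .gi, .b, .c, .d, .gi, .b, .c, .d, .e, .d, .c, .g, .d, .b, .c, .gi, .e, .d, .b, .c, .d, .f, .e] 1 13 1 = true := by decide +kernel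
theorem n2_14 : chkW NON.net 17 [.d, .c, .b, .d, .e, .g, .c, .b, .d, .gi, .c, .d, .e, .d, .c, .b, .g, .d, .c, .b, .g, .e, .d, .c, .d, .b, .c, .a, .g, .b, .gi, .c, .b, .d, .c, .d, .e, .gi, .b, .c, .d, .gi, .b, .c, .d, .e, .d, .c, .g, .d, .b, .c, .gi, .e, .d, .b, .c, .d, .f, .e] 1 14 1 = true := by decide +kernel
theorem n2_15 : chkW NON.net 17 [.d, .c, .b, .d, .e, .g, .c, .b, .d, .gi, .c, .d, .e, .d, .c, .b, .g, .d, .c, .b, .g, .e, .d, .c, .d, .b, .c, .a, .g, .b, .gi, .c, .b, .d, .c, .d, .e, .gi, .b, .c, .d, .gi, .b, .c, .d, .e, .d, .c, .g, .d, .b, .c, .gi, .e, .d, .b, .c, .d, .f, .e] 1 15 1 = true := by decide +kernel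
theorem n2_16 : chkW NON.net 17 [.d, .c, .b, .d, .e, .g, .c, .b, .d, .gi, .c, .d, .e, .d, .c, .b, .g, .d, .c, .b, .g, .e, .d, .c, .d, .b, .c, .a, .g, .b, .gi, .c, .b, .d, .c, .d, .e, .gi, .b, .c, .d, .gi, .b, .c, .d, .e, .d, .c, .g, .d, .b, .c, .gi, .e, .d, .b, .c, .d, .f, .e] 1 16 1 = true := by decide +kernel
theorem n2_c : chkW NON.net 17 [.d, .c, .b, .d, .e, .g, .c, .b, .d, .gi, .c, .d, .e, .d, .c, .b, .g, .d, .c, .b, .g, .e, .d, .c, .d, .b, .c, .a, .g, .b, .gi, .c, .b, .d, .c, .d, .e, .gi, .b, .c, .d, .gi, .b, .c, .d, .e, .d, .c, .g, .d, .b, .c, .gi, .e, .d, .b, .c, .d, .f, .e] 1 0 17 = true := (chkW_glue (a := 16) (b := 1) (chkW_glue (a := 15) (b := 1) (chkW_glue (a := 14) (b := 1) (chkW_glue (a := 13) (b := 1) (chkW_glue (a := 12) (b := 1) (chkW_glue (a := 11) (b := 1) (chkW_glue (a := 10) (b := 1) (chkW_glue (a := 9) (b := 1) (chkW_glue (a := 8) (b :=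 1) (chkW_glue (a := 7) (b := 1) (chkW_glue (a := 6) (b := 1) (chkW_glue (a := 5) (b := 1) (chkW_glue (a := 4) (b := 1) (chkW_glue (a := 3) (b := 1) (chkW_glue (a := 2) (b := 1) (chkW_glue (a := 1) (b := 1) n2_0 n2_1) n2_2) n2_3) n2_4) n2_5) n2_6) n2_7) n2_8) n2_9) n2_10) n2_11) n2_12) n2_13) n2_14) n2_15) n2_16)
/-- relator -/
theorem n2 : (([.d, .c, .b, .d, .e, .g, .c, .b, .d, .gi, .c, .d, .e, .d, .c, .b, .g, .d, .c, .b, .g, .e, .d, .c, .d, .b, .c, .a, .g, .b, .gi, .c, .b, .d, .c, .d, .e, .gi, .b, .c, .d, .gi, .b, .c, .d, .e, .d, .c, .g, .d, .b, .c, .gi, .e, .d, .b, .c, .d, .f, .e] : List Lt).map NON.π).prod = 1 := by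
  have h := pow_eq_one (w := [.d, .c, .b, .d, .e, .g, .c, .b, .d, .gi, .c, .d, .e, .d, .c, .b, .g, .d, .c, .b, .g, .e, .d, .c, .d, .b, .c, .a, .g, .b, .gi, .c, .b, .d, .c, .d, .e, .gi, .b, .c, .d, .gi, .b, .c, .d, .e, .d, .c, .g, .d, .b, .c, .gi, .e, .d, .b, .c, .d, .f, .e]) (n := 1) NON.hbp (fun r hr => chkW_spec n2_c r (Nat.zero_le _) (by simpa using hr))
  rwa [pow_one] at h

end H40.ON3
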